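import Mathlib
import Cfsg.Agent.Helper4.ClassSize

/-!
General lemmas on upper central series of finite `2`-groups, used for S3174.
-/

namespace Cfsg.Agent.Helper5.Ru


variable {T : Type*} [Group T]

local notation "Z" => Subgroup.upperCentralSeries T

theorem ucs_step_eq {n : ℕ} (h : Z n = Z (n + 1)) : Z (n + 1) = Z (n + 2) := by
  ext x
  rw [Subgroup.mem_upperCentralSeries_succ_iff, Subgroup.mem_upperCentralSeries_succ_iff]
  constructor
  · intro hx y; rw [← h]; exact hx y
  · intro hx y; rw [h]; exact hx y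

theorem ucs_stable {n : ℕ} (h : Z n = Z (n + 1)) (m : ℕ) : Z (n + m) = Z n := by
  induction m generalizing n with
  | zero => rfl
  | succ m ih =>
    have h2 := ucs_step_eq h
    have := ih h2
    rw [show n + (m + 1) = n + 1 + m by omega, this, ← h]

theorem ucs_eq_top_of_eq [Group.IsNilpotent T] {n : ℕ} (h : Z n = Z (n + 1)) : Z n = ⊤ := by
  have h1 := ucs_stable h (Group.nilpotencyClass T)
  have h2 : Z (n + Group.nilpotencyClass T) = ⊤ := by
    apply top_unique
    rw [← Subgroup.upperCentralSeries_nilpotencyClass (G := T)]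
    exact Subgroup.upperCentralSeries_mono T (by omega)
  rw [← h1, h2]

theorem ucs_lt_succ [Group.IsNilpotent T] {n : ℕ} (h : Z n ≠ ⊤) : Z n < Z (n + 1) := by
  refine lt_of_le_of_ne (Subgroup.upperCentralSeries_mono T (by omega)) ?_
  intro h'
  exact h (ucs_eq_top_of_eq h')

theorem ucs_ne_top_of_le [Group.IsNilpotent T] {n m : ℕ} (hnm : n ≤ m) (h : Z m ≠ ⊤) :
    Z n ≠ ⊤ := by
  intro h'
  apply h
  apply top_unique
  rw [← h']
  exact Subgroup.upperCentralSeries_mono T hnm

/-- Lemma N: a normal subgroup not inside `Z k` meets `Z (k+1) \ Z k`. -/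
theorem exists_mem_ucs_succ [Group.IsNilpotent T] (K : Subgroup T) [K.Normal] (k : ℕ)
    (hK : ¬ K ≤ Z k) : ∃ x ∈ K, x ∈ Z (k + 1) ∧ x ∉ Z k := by
  classical
  have hex : ∃ j, ¬ (K ⊓ Z j ≤ Z k) := by
    refine ⟨Group.nilpotencyClass T, ?_⟩
    rw [Subgroup.upperCentralSeries_nilpotencyClass, inf_top_eq]
    exact hK
  have hmin : ∀ {m : ℕ}, m < Nat.find hex → ¬ ¬ (K ⊓ Z m ≤ Z k) := fun hm => Nat.find_min hex hm
  have hspec := Nat.find_spec hex
  set j := Nat.find hex with hj
  have hj0 : j ≠ 0 := by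
    intro h0
    rw [h0, Subgroup.upperCentralSeries_zero, inf_bot_eq] at hspec
    exact hspec bot_le
  obtain ⟨j', hj'⟩ := Nat.exists_eq_succ_of_ne_zero hj0
  have hprev : K ⊓ Z j' ≤ Z k := by
    by_contra hc
    exact hmin (by omega : j' < Nat.find hex) hc
  obtain ⟨x, hx, hxk⟩ := SetLike.not_le_iff_exists.mp hspec
  have hxK : x ∈ K := hx.1
  have hxj : x ∈ Z (j' + 1) := by
    have := hx.2
    rw [hj'] at this
    exact this
  refine ⟨x, hxK, ?_, hxk⟩
  rw [Subgroup.mem_upperCentralSeries_succ_iff]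
  intro y
  apply hprev
  refine ⟨?_, ?_⟩
  · have h1 : y * x⁻¹ * y⁻¹ ∈ K := ‹K.Normal›.conj_mem _ (K.inv_mem hxK) y
    have := K.mul_mem hxK h1
    rw [commutatorElement_def]
    simpa [mul_assoc] using this
  · rw [Subgroup.mem_upperCentralSeries_succ_iff] at hxj
    exact hxj y


section general

variable {G : Type*} [Group G]

theorem card_mul_relIndex {H K : Subgroup G} (hHK : H ≤ K) :
    Nat.card H * H.relIndex K = Nat.card K := by
  have := Subgroup.relIndex_mul_relIndex (H := (⊥ : Subgroup G)) (K := H) (L := K) bot_le hHK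
  rwa [Subgroup.relIndex_bot_left, Subgroup.relIndex_bot_left] at this

theorem relIndex_eq_two_of_card [Finite G] {H K : Subgroup G} (hHK : H ≤ K)
    (hc : Nat.card K = 2 * Nat.card H) : H.relIndex K = 2 := by
  have h1 := card_mul_relIndex hHK
  have hpos : 0 < Nat.card H := Nat.card_pos
  rw [hc, mul_comm] at h1
  exact Nat.eq_of_mul_eq_mul_right hpos h1

theorem mul_inv_mem_of_relIndex_two {H K : Subgroup G} (h2 : H.relIndex K = 2) {x y : G}
    (hx : x ∈ K) (hy : y ∈ K) (hxH : x ∉ H) (hyH : y ∉ H) : y * x⁻¹ ∈ H := by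
  obtain ⟨a, _, ha⟩ := Subgroup.relIndex_eq_two_iff.mp h2
  have hxa : x * a ∈ H := by
    rcases ha x hx with h | h
    · exact h.1
    · exact absurd h.1 hxH
  have hya : y * a ∈ H := by
    rcases ha y hy with h | h
    · exact h.1
    · exact absurd h.1 hyH
  have := H.mul_mem hya (H.inv_mem hxa)
  simpa [mul_assoc] using this

theorem inv_mul_mem_of_relIndex_two {H K : Subgroup G} (h2 : H.relIndex K = 2) {x y : G}
    (hx : x ∈ K) (hy : y ∈ K) (hxH : x ∉ H) (hyH : y ∉ H) : x⁻¹ * y ∈ H := by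
  have hx' : x⁻¹ ∉ H := fun h => hxH (by simpa using H.inv_mem h)
  have hy' : y⁻¹ ∉ H := fun h => hyH (by simpa using H.inv_mem h)
  have := mul_inv_mem_of_relIndex_two h2 (K.inv_mem hy) (K.inv_mem hx) hy' hx'
  simpa using this

theorem index_centralizer_le (g : G) (S : Set G) (hS : S.Finite)
    (h : ∀ x : G, x * g * x⁻¹ ∈ S) : (Subgroup.centralizer ({g} : Set G)).index ≤ S.ncard := by
  rw [Cfsg.Agent.Helper4.index_centralizer_eq_card_conj]
  have hsub : {y : G | IsConj g y} ⊆ S := by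
    intro y hy
    obtain ⟨c, hc⟩ := isConj_iff.mp hy
    rw [← hc]
    exact h c
  have := Set.ncard_le_ncard hsub hS
  rwa [← Nat.card_coe_set_eq] at this

end general

section two

variable [Finite T]

theorem card_ucs_of_card_four (hT : IsPGroup 2 T) (h4 : Nat.card (Z 4) = 16)
    (htop : Z 4 ≠ ⊤) : ∀ i ≤ 4, Nat.card (Z i) = 2 ^ i := by
  haveI : Group.IsNilpotent T := hT.isNilpotent
  have hlt : ∀ i < 4, Nat.card (Z i) < Nat.card (Z (i + 1)) := by
    intro i hi
    have hne : Z i ≠ ⊤ := ucs_ne_top_of_le (by omega) htop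
    have hlt := ucs_lt_succ hne
    have hle := Subgroup.card_le_of_le hlt.le
    refine lt_of_le_of_ne hle ?_
    intro heq
    exact hlt.ne (Subgroup.eq_of_le_of_card_ge hlt.le heq.ge)
  have hpow : ∀ i, ∃ a, Nat.card (Z i) = 2 ^ a := fun i => (hT.to_subgroup (Z i)).exists_card_eq
  obtain ⟨a0, h0⟩ := hpow 0
  obtain ⟨a1, h1⟩ := hpow 1
  obtain ⟨a2, h2⟩ := hpow 2
  obtain ⟨a3, h3⟩ := hpow 3
  obtain ⟨a4, h4'⟩ := hpow 4
  have l0 := hlt 0 (by omega)
  have l1 := hlt 1 (by omega)
  have l2 := hlt 2 (by omega)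
  have l3 := hlt 3 (by omega)
  simp only [zero_add, Nat.reduceAdd] at l0 l1 l2 l3
  rw [h0, h1] at l0
  rw [h1, h2] at l1
  rw [h2, h3] at l2
  rw [h3, h4'] at l3
  have e4 : a4 = 4 := by
    have : 2 ^ a4 = 2 ^ 4 := by rw [← h4', h4]; norm_num
    exact Nat.pow_right_injective (le_refl 2) this
  have m0 := (Nat.pow_lt_pow_iff_right (by norm_num : 1 < 2)).mp l0
  have m1 := (Nat.pow_lt_pow_iff_right (by norm_num : 1 < 2)).mp l1
  have m2 := (Nat.pow_lt_pow_iff_right (by norm_num : 1 < 2)).mp l2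
  have m3 := (Nat.pow_lt_pow_iff_right (by norm_num : 1 < 2)).mp l3
  intro i hi
  interval_cases i
  · rw [h0]; congr 1; omega
  · rw [h1]; congr 1; omega
  · rw [h2]; congr 1; omega
  · rw [h3]; congr 1; omega
  · rw [h4'];  congr 1

end two


section normal

variable [Finite T]

theorem ucs_succ_le_of_normal [Group.IsNilpotent T] (N : Subgroup T) [N.Normal] (j : ℕ)
    (hN : ¬ N ≤ Z j) (hle : Z j ≤ N) (hc : Nat.card (Z (j + 1)) = 2 * Nat.card (Z j)) :
    Z (j + 1) ≤ N := by
  obtain ⟨x, hxN, hx1, hx0⟩ := exists_mem_ucs_succ N j hN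
  have h2 := relIndex_eq_two_of_card (Subgroup.upperCentralSeries_mono T (Nat.le_succ j)) hc
  intro y hy
  by_cases hy0 : y ∈ Z j
  · exact hle hy0
  · have h3 := inv_mul_mem_of_relIndex_two h2 hx1 hy hx0 hy0
    have := N.mul_mem hxN (hle h3)
    simpa using this

theorem normal_le_ucs (hT : IsPGroup 2 T) (hZ : ∀ i ≤ 4, Nat.card (Z i) = 2 ^ i)
    (N : Subgroup T) [N.Normal] (k : ℕ) (hk : k ≤ 3) (hN : Nat.card N = 2 ^ k) : N ≤ Z k := by
  have : Group.IsNilpotent T := hT.isNilpotent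
  by_contra hcon
  have key : ∀ j ≤ k + 1, Z j ≤ N := by
    intro j
    induction j with
    | zero => intro _; rw [Subgroup.upperCentralSeries_zero]; exact bot_le
    | succ j ih =>
      intro hj
      have hjk : j ≤ k := by omega
      apply ucs_succ_le_of_normal N j _ (ih (by omega))
      · rw [hZ (j + 1) (by omega), hZ j (by omega), pow_succ]; ring
      · intro hle
        exact hcon (hle.trans (Subgroup.upperCentralSeries_mono T hjk))
  have h1 := Subgroup.card_le_of_le (key (k + 1) le_rfl)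
  rw [hZ (k + 1) (by omega), hN] at h1
  have : 2 ^ k < 2 ^ (k + 1) := Nat.pow_lt_pow_right (by norm_num) (by omega)
  omega

theorem normal_eq_ucs (hT : IsPGroup 2 T) (hZ : ∀ i ≤ 4, Nat.card (Z i) = 2 ^ i)
    (N : Subgroup T) [N.Normal] (k : ℕ) (hk : k ≤ 3) (hN : Nat.card N = 2 ^ k) : N = Z k := by
  have hle := normal_le_ucs hT hZ N k hk hN
  apply Subgroup.eq_of_le_of_card_ge hle
  rw [hZ k (by omega), hN]

end normal

end Cfsg.Agent.Helper5.Ru
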