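import Mathlib
import Cfsg.Agent.Helper5.Ru.Basic

/-!
A subgroup of index two avoiding a given element, and the fixed-point bound.
-/

namespace Cfsg.Agent.Helper5.Ru

open scoped commutatorElement

section avoid

variable {G : Type*} [Group G]

/-- `U ∪ bU` as a subgroup. -/
def extendBy (U : Subgroup G) (b : G) (hb2 : b * b ∈ U)
    (hn : ∀ u ∈ U, b⁻¹ * u * b ∈ U) : Subgroup G where
  carrier := {x | x ∈ U ∨ b⁻¹ * x ∈ U}
  mul_mem' := by
    rintro x y (hx | hx) (hy | hy)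
    · exact Or.inl (U.mul_mem hx hy)
    · right
      have := U.mul_mem (hn x hx) hy
      simpa [mul_assoc] using this
    · right
      have := U.mul_mem hx hy
      simpa [mul_assoc] using this
    · left
      have h1 := U.mul_mem (U.mul_mem hb2 (hn _ hx)) hy
      have : b * b * (b⁻¹ * (b⁻¹ * x) * b) * (b⁻¹ * y) = x * y := by group
      rwa [this] at h1
  one_mem' := Or.inl U.one_mem
  inv_mem' := by
    rintro x (hx | hx)
    · exact Or.inl (U.inv_mem hx)
    · right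
      have h1 := U.mul_mem (hn _ (U.inv_mem hx)) (U.inv_mem hb2)
      have : b⁻¹ * (b⁻¹ * x)⁻¹ * b * (b * b)⁻¹ = b⁻¹ * x⁻¹ := by group
      rwa [this] at h1

theorem mem_extendBy {U : Subgroup G} {b : G} {hb2 : b * b ∈ U}
    {hn : ∀ u ∈ U, b⁻¹ * u * b ∈ U} {x : G} :
    x ∈ extendBy U b hb2 hn ↔ x ∈ U ∨ b⁻¹ * x ∈ U := Iff.rfl

theorem exists_relIndex_two_avoiding [Finite G] (A B : Subgroup G) (hAB : A ≤ B)
    (hsq : ∀ x ∈ B, x * x ∈ A) (hcomm : ∀ x ∈ B, ∀ y ∈ B, ⁅x, y⁆ ∈ A) (c : G) (hcB : c ∈ B)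
    (hcA : c ∉ A) : ∃ U : Subgroup G, A ≤ U ∧ U ≤ B ∧ c ∉ U ∧ U.relIndex B = 2 := by
  classical
  let p : Subgroup G → Prop := fun U => A ≤ U ∧ U ≤ B ∧ c ∉ U
  have hpA : p A := ⟨le_rfl, hAB, hcA⟩
  obtain ⟨U, -, hU⟩ := Finite.exists_le_maximal hpA
  obtain ⟨⟨hAU, hUB, hcU⟩, hmax⟩ := hU
  refine ⟨U, hAU, hUB, hcU, ?_⟩
  rw [Subgroup.relIndex_eq_two_iff]
  refine ⟨c, hcB, ?_⟩
  intro b hb
  by_cases hbU : b ∈ U
  · right
    refine ⟨hbU, ?_⟩
    intro h
    apply hcU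
    have := U.mul_mem (U.inv_mem hbU) h
    simpa using this
  · left
    refine ⟨?_, hbU⟩
    have hb2 : b * b ∈ U := hAU (hsq b hb)
    have hn : ∀ u ∈ U, b⁻¹ * u * b ∈ U := by
      intro u hu
      have h1 : ⁅u⁻¹, b⁻¹⁆ ∈ A := hcomm _ (B.inv_mem (hUB hu)) _ (B.inv_mem hb)
      have h2 := U.mul_mem hu (hAU h1)
      have : u * ⁅u⁻¹, b⁻¹⁆ = b⁻¹ * u * b := by rw [commutatorElement_def]; group
      rwa [this] at h2
    let U' := extendBy U b hb2 hn
    have hUU' : U ≤ U' := fun x hx => Or.inl hx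
    have hbU' : b ∈ U' := Or.inr (by simp [U.one_mem])
    have hU'B : U' ≤ B := by
      rintro x (hx | hx)
      · exact hUB hx
      · have := B.mul_mem hb (hUB hx)
        simpa using this
    have hcU' : c ∈ U' := by
      by_contra hc
      have hp : p U' := ⟨hAU.trans hUU', hU'B, hc⟩
      have := hmax hp hUU'
      exact hbU (this hbU')
    rcases hcU' with h | h
    · exact absurd h hcU
    · have := U.mul_mem hb2 h
      simpa [mul_assoc] using this

end avoid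


section bound

variable {T : Type*} [Group T] [Finite T]

/-- The fixed-point bound. `F ≤ W` normal in `T`, `W/F` elementary abelian, `T` has at most one
nontrivial fixed point on `W/F` and every nontrivial `T`-invariant subgroup of `W/F` contains a
fixed point.  Then a subgroup `C ≤ W` fixed mod `F` by `X` has order at most `|F|·2^{|T:X|}`. -/
theorem card_fixed_le (F W : Subgroup T) [hFn : F.Normal] [hWn : W.Normal] (hFW : F ≤ W)
    (hsq : ∀ x ∈ W, x * x ∈ F) (hcomm : ∀ x ∈ W, ∀ y ∈ W, ⁅x, y⁆ ∈ F)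
    (hfix2 : ∀ x ∈ W, ∀ y ∈ W, (∀ t : T, ⁅x, t⁆ ∈ F) → (∀ t : T, ⁅y, t⁆ ∈ F) → x ∉ F → y ∉ F →
      x⁻¹ * y ∈ F)
    (hN : ∀ K : Subgroup T, K.Normal → K ≤ W → ¬ K ≤ F → ∃ x ∈ K, x ∉ F ∧ ∀ t : T, ⁅x, t⁆ ∈ F)
    (X C : Subgroup T) (hCW : C ≤ W) (hC : ∀ u ∈ C, ∀ x ∈ X, ⁅u, x⁆ ∈ F) :
    Nat.card C ≤ Nat.card F * 2 ^ X.index := by
  classical
  by_cases hWF : W ≤ F
  · have h1 : Nat.card C ≤ Nat.card F := Subgroup.card_le_of_le (hCW.trans hWF)
    have h2 : 1 ≤ 2 ^ X.index := Nat.one_le_two_pow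
    calc Nat.card C ≤ Nat.card F * 1 := by omega
      _ ≤ Nat.card F * 2 ^ X.index := Nat.mul_le_mul_left _ h2
  obtain ⟨s, hsW, hsF, hsfix⟩ := hN W hWn le_rfl hWF
  obtain ⟨U, hFU, hUW, hsU, hU2⟩ := exists_relIndex_two_avoiding F W hFW hsq hcomm s hsW hsF
  -- the core of U is F
  have hcore : U.normalCore ≤ F := by
    by_contra hcon
    obtain ⟨x, hxK, hxF, hxfix⟩ := hN U.normalCore inferInstance
      (U.normalCore_le.trans hUW) hcon
    have hxW : x ∈ W := hUW (U.normalCore_le hxK)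
    have h1 := hfix2 x hxW s hsW hxfix hsfix hxF hsF
    have hFK : F ≤ U.normalCore := Subgroup.normal_le_normalCore.mpr hFU
    have h2 := U.normalCore.mul_mem hxK (hFK h1)
    rw [mul_inv_cancel_left] at h2
    exact hsU (U.normalCore_le h2)
  haveI : Fintype (T ⧸ X) := Fintype.ofFinite _
  let H : T ⧸ X → Subgroup T := fun q => U.comap (MulAut.conj q.out).toMonoidHom
  have hHrel : ∀ q, (H q).relIndex C ≤ 2 := by
    intro q
    have h1 : (H q).relIndex W = 2 := by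
      show (U.comap (MulAut.conj q.out).toMonoidHom).relIndex W = 2
      rw [Subgroup.relIndex_comap]
      have : W.map (MulAut.conj q.out).toMonoidHom = W := by
        ext y
        constructor
        · rintro ⟨w, hw, rfl⟩
          exact hWn.conj_mem w hw _
        · intro hy
          refine ⟨q.out⁻¹ * y * q.out, ?_, ?_⟩
          · have := hWn.conj_mem y hy q.out⁻¹
            simpa using this
          · simp [MulAut.conj_apply, mul_assoc]
      rw [this, hU2]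
    have h2 := Subgroup.relIndex_le_of_le_right (H := H q) hCW (by rw [h1]; norm_num)
    rw [h1] at h2
    exact h2
  have hM : (⨅ q, H q) ⊓ C ≤ F := by
    intro u hu
    apply hcore
    intro t
    obtain ⟨x, hx⟩ := QuotientGroup.mk_out_eq_mul X t
    have huH : u ∈ H (QuotientGroup.mk t) := (Subgroup.mem_iInf.mp hu.1) _
    have huH' : (QuotientGroup.mk t : T ⧸ X).out * u * (QuotientGroup.mk t : T ⧸ X).out⁻¹ ∈ U := huH
    rw [hx] at huH'
    have hf : ⁅u⁻¹, (x : T)⁆ ∈ F := hC _ (C.inv_mem hu.2) _ x.2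
    have hf' : t * ⁅u⁻¹, (x : T)⁆⁻¹ * t⁻¹ ∈ U := hFU (hFn.conj_mem _ (F.inv_mem hf) t)
    have := U.mul_mem huH' hf'
    have e : t * (x : T) * u * (t * (x : T))⁻¹ * (t * ⁅u⁻¹, (x : T)⁆⁻¹ * t⁻¹) = t * u * t⁻¹ := by
      rw [commutatorElement_def]; group
    rwa [e] at this
  have hrel : (⨅ q, H q).relIndex C ≤ 2 ^ X.index := by
    calc (⨅ q, H q).relIndex C ≤ ∏ q, (H q).relIndex C := Subgroup.relIndex_iInf_le _
      _ ≤ ∏ _q : T ⧸ X, 2 := Finset.prod_le_prod' (fun q _ => hHrel q)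
      _ = 2 ^ X.index := by
        rw [Finset.prod_const, Finset.card_univ, Subgroup.index_eq_card, Nat.card_eq_fintype_card]
  have hcard := card_mul_relIndex (inf_le_right : (⨅ q, H q) ⊓ C ≤ C)
  rw [Subgroup.inf_relIndex_right] at hcard
  calc Nat.card C = Nat.card ↥((⨅ q, H q) ⊓ C) * (⨅ q, H q).relIndex C := hcard.symm
    _ ≤ Nat.card F * 2 ^ X.index := Nat.mul_le_mul (Subgroup.card_le_of_le hM) hrel

end bound

end Cfsg.Agent.Helper5.Ru
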