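import Mathlib
import Cfsg.Agent.Helper5.Ru.Bound

/-!
Two subgroup constructions: elements of `B` whose commutator with a fixed `d` lies in a normal
subgroup `K`; and the elements `x` such that all commutators `⁅u, x⁆`, `u ∈ C`, lie in `K`.
-/

namespace Cfsg.Agent.Helper5.Ru

open scoped commutatorElement

variable {T : Type*} [Group T]

theorem comm_mul_left (x y z : T) : ⁅x * y, z⁆ = x * ⁅y, z⁆ * x⁻¹ * ⁅x, z⁆ := by
  simp only [commutatorElement_def]; group

theorem comm_mul_right (x y z : T) : ⁅x, y * z⁆ = ⁅x, y⁆ * (y * ⁅x, z⁆ * y⁻¹) := by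
  simp only [commutatorElement_def]; group

theorem comm_inv_left (x z : T) : ⁅x⁻¹, z⁆ = x⁻¹ * ⁅x, z⁆⁻¹ * x := by
  simp only [commutatorElement_def]; group

theorem comm_inv_right (x z : T) : ⁅x, z⁻¹⁆ = z⁻¹ * ⁅x, z⁆⁻¹ * z := by
  simp only [commutatorElement_def]; group

theorem conj_comm (d x y : T) : d * ⁅x, y⁆ * d⁻¹ = ⁅d * x * d⁻¹, d * y * d⁻¹⁆ := by
  simp only [commutatorElement_def]; group

/-- the elements `u` of `B` with `⁅u, d⁆ ∈ K` -/
def commSub (B K : Subgroup T) [hK : K.Normal] (d : T) : Subgroup T where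
  carrier := {u | u ∈ B ∧ ⁅u, d⁆ ∈ K}
  mul_mem' := by
    rintro x y ⟨hx, hx2⟩ ⟨hy, hy2⟩
    refine ⟨B.mul_mem hx hy, ?_⟩
    rw [comm_mul_left]
    exact K.mul_mem (hK.conj_mem _ hy2 x) hx2
  one_mem' := ⟨B.one_mem, by simp⟩
  inv_mem' := by
    rintro x ⟨hx, hx2⟩
    refine ⟨B.inv_mem hx, ?_⟩
    rw [comm_inv_left]
    have := hK.conj_mem _ (K.inv_mem hx2) x⁻¹
    simpa using this

theorem mem_commSub {B K : Subgroup T} [K.Normal] {d u : T} :
    u ∈ commSub B K d ↔ u ∈ B ∧ ⁅u, d⁆ ∈ K := Iff.rfl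

theorem commSub_le (B K : Subgroup T) [K.Normal] (d : T) : commSub B K d ≤ B := fun _ h => h.1

/-- the elements `x` such that `⁅u, x⁆ ∈ K` for all `u ∈ C` -/
def stabSub (K : Subgroup T) [hK : K.Normal] (C : Set T) : Subgroup T where
  carrier := {x | ∀ u ∈ C, ⁅u, x⁆ ∈ K}
  mul_mem' := by
    intro x y hx hy u hu
    rw [comm_mul_right]
    exact K.mul_mem (hx u hu) (hK.conj_mem _ (hy u hu) x)
  one_mem' := by intro u _; simp
  inv_mem' := by
    intro x hx u hu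
    rw [comm_inv_right]
    have := hK.conj_mem _ (K.inv_mem (hx u hu)) x⁻¹
    simpa using this

theorem mem_stabSub {K : Subgroup T} [K.Normal] {C : Set T} {x : T} :
    x ∈ stabSub K C ↔ ∀ u ∈ C, ⁅u, x⁆ ∈ K := Iff.rfl

end Cfsg.Agent.Helper5.Ru
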