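import Mathlib
import Cfsg.Agent.Helper5.Ru.Subs

/-!
Commutator calculus in a normal subgroup `W` of `T` with `W' ≤ N ≤ Z(W)`, `N` of exponent two,
squares of `W` in `N`.
-/

namespace Cfsg.Agent.Helper5.Ru

open scoped commutatorElement

variable {T : Type*} [Group T]

theorem sq_mul_id2 (x y : T) : (x * y) * (x * y) = (x * x) * ⁅x⁻¹, y⁆ * (y * y) := by
  rw [commutatorElement_def]; group

/-- `⁅w, d⁆ = w * (d w d⁻¹)⁻¹` -/
theorem comm_eq_mul_conj_inv (w d : T) : ⁅w, d⁆ = w * (d * w * d⁻¹)⁻¹ := by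
  rw [commutatorElement_def]; group

/-- the standing hypotheses on `N ≤ W` -/
structure Ctx (W N : Subgroup T) : Prop where
  wn : W.Normal
  nn : N.Normal
  le : N ≤ W
  cen : ∀ n ∈ N, ∀ w ∈ W, n * w = w * n
  exp : ∀ n ∈ N, n * n = 1
  comm : ∀ x ∈ W, ∀ y ∈ W, ⁅x, y⁆ ∈ N
  sq : ∀ x ∈ W, x * x ∈ N

namespace Ctx

variable {W N : Subgroup T} (h : Ctx W N)
include h

theorem conj_mem {w : T} (hw : w ∈ W) (d : T) : d * w * d⁻¹ ∈ W := h.wn.conj_mem w hw d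

theorem inv_eq {n : T} (hn : n ∈ N) : n⁻¹ = n := by
  have := h.exp n hn
  exact (eq_inv_of_mul_eq_one_left this).symm

theorem conj_eq {n x : T} (hn : n ∈ N) (hx : x ∈ W) : x * n * x⁻¹ = n := by
  rw [← h.cen n hn x hx]; group

theorem comm_mul_left' {x y z : T} (hx : x ∈ W) (hy : y ∈ W) (hz : z ∈ W) :
    ⁅x * y, z⁆ = ⁅x, z⁆ * ⁅y, z⁆ := by
  rw [comm_mul_left, h.conj_eq (h.comm y hy z hz) hx]
  exact h.cen _ (h.comm y hy z hz) _ (h.le (h.comm x hx z hz))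

theorem comm_mul_right' {x y z : T} (hx : x ∈ W) (hy : y ∈ W) (hz : z ∈ W) :
    ⁅x, y * z⁆ = ⁅x, y⁆ * ⁅x, z⁆ := by
  rw [comm_mul_right, h.conj_eq (h.comm x hx z hz) hy]

theorem comm_symm {x y : T} (hx : x ∈ W) (hy : y ∈ W) : ⁅x, y⁆ = ⁅y, x⁆ := by
  rw [← commutatorElement_inv, h.inv_eq (h.comm y hy x hx)]

theorem comm_left_eq_one {n x : T} (hn : n ∈ N) (hx : x ∈ W) : ⁅n, x⁆ = 1 := by
  rw [commutatorElement_def, h.cen n hn x hx]; group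

theorem comm_right_eq_one {n x : T} (hn : n ∈ N) (hx : x ∈ W) : ⁅x, n⁆ = 1 := by
  rw [h.comm_symm hx (h.le hn)]; exact h.comm_left_eq_one hn hx

theorem comm_inv_left' {x y : T} (hx : x ∈ W) (hy : y ∈ W) : ⁅x⁻¹, y⁆ = ⁅x, y⁆ := by
  have h1 := h.comm_mul_left' hx (W.inv_mem hx) hy
  rw [mul_inv_cancel, commutatorElement_one_left] at h1
  have h2 : ⁅x⁻¹, y⁆ = ⁅x, y⁆⁻¹ := (inv_eq_of_mul_eq_one_right h1.symm).symm
  rw [h2, h.inv_eq (h.comm x hx y hy)]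

theorem comm_inv_right' {x y : T} (hx : x ∈ W) (hy : y ∈ W) : ⁅x, y⁻¹⁆ = ⁅x, y⁆ := by
  rw [h.comm_symm hx (W.inv_mem hy), h.comm_inv_left' hy hx, h.comm_symm hy hx]

theorem sq_mul {x y : T} (hx : x ∈ W) (hy : y ∈ W) :
    (x * y) * (x * y) = (x * x) * (y * y) * ⁅x, y⁆ := by
  rw [sq_mul_id2, h.comm_inv_left' hx hy, mul_assoc (x * x),
    h.cen _ (h.comm x hx y hy) _ (W.mul_mem hy hy), ← mul_assoc]

theorem comm_mul_n_left {x n y : T} (hx : x ∈ W) (hn : n ∈ N) (hy : y ∈ W) :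
    ⁅x * n, y⁆ = ⁅x, y⁆ := by
  rw [h.comm_mul_left' hx (h.le hn) hy, h.comm_left_eq_one hn hy, mul_one]

theorem comm_mul_n_right {x n y : T} (hx : x ∈ W) (hn : n ∈ N) (hy : y ∈ W) :
    ⁅x, y * n⁆ = ⁅x, y⁆ := by
  rw [h.comm_mul_right' hx hy (h.le hn), h.comm_right_eq_one hn hx, mul_one]

theorem sq_mul_n {x n : T} (hx : x ∈ W) (hn : n ∈ N) : (x * n) * (x * n) = x * x := by
  rw [h.sq_mul hx (h.le hn), h.exp n hn, h.comm_right_eq_one hn hx, mul_one, mul_one]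

/-- commutators only depend on the class modulo `N` -/
theorem comm_congr_right {x y y' : T} (hx : x ∈ W) (hy : y ∈ W) (hyy : y⁻¹ * y' ∈ N) :
    ⁅x, y'⁆ = ⁅x, y⁆ := by
  have : y' = y * (y⁻¹ * y') := by group
  rw [this, h.comm_mul_n_right hx hyy hy]

theorem sq_congr {y y' : T} (hy : y ∈ W) (hyy : y⁻¹ * y' ∈ N) : y' * y' = y * y := by
  have : y' = y * (y⁻¹ * y') := by group
  rw [this, h.sq_mul_n hy hyy]

/-- If `d * d ∈ W` then `⁅u, d u d⁻¹⁆` is fixed by `d`. -/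
theorem fixed_comm_conj {d u : T} (hd2 : d * d ∈ W) (hu : u ∈ W) :
    d * ⁅u, d * u * d⁻¹⁆ * d⁻¹ = ⁅u, d * u * d⁻¹⁆ := by
  have hv : d * u * d⁻¹ ∈ W := h.conj_mem hu d
  rw [conj_comm]
  have e1 : d * (d * u * d⁻¹) * d⁻¹ = ⁅d * d, u⁆ * u := by
    rw [commutatorElement_def]; group
  rw [e1, h.comm_mul_right' hv (h.le (h.comm _ hd2 u hu)) hu,
    h.comm_right_eq_one (h.comm _ hd2 u hu) hv, one_mul, h.comm_symm hv hu]

theorem comm_mem {w : T} (hw : w ∈ W) (d : T) : ⁅w, d⁆ ∈ W := by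
  rw [comm_eq_mul_conj_inv]
  exact W.mul_mem hw (W.inv_mem (h.conj_mem hw d))

/-- the square of `⁅w, d⁆` lies in `A`, if `A` contains the fixed points of `d` on `N` and `⁅d, N⁆`. -/
theorem sq_comm_mem (A : Subgroup T) {d w : T} (hd2 : d * d ∈ W)
    (hfix : ∀ n ∈ N, d * n * d⁻¹ = n → n ∈ A) (hdn : ∀ n ∈ N, ⁅d, n⁆ ∈ A) (hw : w ∈ W) :
    ⁅w, d⁆ * ⁅w, d⁆ ∈ A := by
  have hv : d * w * d⁻¹ ∈ W := h.conj_mem hw d
  have hv' : (d * w * d⁻¹)⁻¹ ∈ W := W.inv_mem hv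
  rw [comm_eq_mul_conj_inv, h.sq_mul hw hv', h.comm_inv_right' hw hv]
  have h1 : ⁅w, d * w * d⁻¹⁆ ∈ A :=
    hfix _ (h.comm w hw _ hv) (h.fixed_comm_conj hd2 hw)
  refine A.mul_mem ?_ h1
  have e : (d * w * d⁻¹)⁻¹ * (d * w * d⁻¹)⁻¹ = (⁅d, w * w⁆ * (w * w))⁻¹ := by
    rw [commutatorElement_def]; group
  rw [e, mul_inv_rev, ← mul_assoc, mul_inv_cancel, one_mul]
  exact A.inv_mem (hdn _ (h.sq w hw))

end Ctx

end Cfsg.Agent.Helper5.Ru
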