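import Mathlib
import Cfsg.Agent.Helper5.Ru.Ctx

/-!
The counting lemma: `(1 + d)^2 = 0` on an elementary abelian section.
-/

namespace Cfsg.Agent.Helper5.Ru

open scoped commutatorElement

variable {T : Type*} [Group T]

theorem comm_comm_identity (w d : T) :
    ⁅⁅w, d⁆, d⁆ = (w * (d * w * d⁻¹)⁻¹) * ⁅d * d, w⁆ * (w * (d * w * d⁻¹)⁻¹) := by
  simp only [commutatorElement_def]; group

theorem card_ker_mul_card_range {G H : Type*} [Group G] [Group H] (f : G →* H) :
    Nat.card f.ker * Nat.card f.range = Nat.card G := by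
  rw [← Subgroup.index_ker]
  exact Subgroup.card_mul_index f.ker

theorem gl_count [Finite T] (W N B : Subgroup T) [hNn : N.Normal] [hWn : W.Normal]
    (hNB : N ≤ B) (hBW : B ≤ W)
    (hcen : ∀ n ∈ N, ∀ w ∈ W, n * w = w * n)
    (hcomm : ∀ x ∈ W, ∀ y ∈ W, ⁅x, y⁆ ∈ N) (hsq : ∀ x ∈ W, x * x ∈ N)
    (d : T) (hdB : ∀ u ∈ B, d * u * d⁻¹ ∈ B) (hd2 : d * d ∈ W) :
    Nat.card B * Nat.card N ≤ Nat.card (commSub B N d) ^ 2 ∧
    (Nat.card B * Nat.card N = Nat.card (commSub B N d) ^ 2 →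
      ∀ u ∈ commSub B N d, ∃ w ∈ B, u⁻¹ * ⁅w, d⁆ ∈ N) := by
  classical
  have hπ1 : ∀ n ∈ N, (QuotientGroup.mk' N) n = 1 := fun n hn =>
    (QuotientGroup.eq_one_iff n).mpr hn
  have hπconj : ∀ x ∈ W, ∀ v ∈ W,
      (QuotientGroup.mk' N) (x * v * x⁻¹) = (QuotientGroup.mk' N) v := by
    intro x hx v hv
    have e : x * v * x⁻¹ = ⁅x, v⁆ * v := by rw [commutatorElement_def]; group
    rw [e, map_mul, hπ1 _ (hcomm x hx v hv), one_mul]
  have hπcomm : ∀ x ∈ W, ∀ y ∈ W,
      (QuotientGroup.mk' N) x * (QuotientGroup.mk' N) y =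
        (QuotientGroup.mk' N) y * (QuotientGroup.mk' N) x := by
    intro x hx y hy
    have e : x * y = ⁅x, y⁆ * (y * x) := by rw [commutatorElement_def]; group
    rw [← map_mul, e, map_mul, hπ1 _ (hcomm x hx y hy), one_mul, map_mul]
  have hcd : ∀ w ∈ B, ⁅w, d⁆ ∈ B := by
    intro w hw
    rw [comm_eq_mul_conj_inv]
    exact B.mul_mem hw (B.inv_mem (hdB w hw))
  have hcc : ∀ w ∈ B, ⁅⁅w, d⁆, d⁆ ∈ N := by
    intro w hw
    have hwW := hBW hw
    have hx : w * (d * w * d⁻¹)⁻¹ ∈ W := W.mul_mem hwW (W.inv_mem (hWn.conj_mem w hwW d))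
    have hn : ⁅d * d, w⁆ ∈ N := hcomm _ hd2 w hwW
    rw [comm_comm_identity, mul_assoc, hcen _ hn _ hx, ← mul_assoc]
    exact N.mul_mem (hsq _ hx) hn
  have hNC : N ≤ commSub B N d := by
    intro n hn
    refine ⟨hNB hn, ?_⟩
    rw [commutatorElement_def]
    have := hNn.conj_mem n⁻¹ (N.inv_mem hn) d
    have e : n * d * n⁻¹ * d⁻¹ = n * (d * n⁻¹ * d⁻¹) := by group
    rw [e]
    exact N.mul_mem hn this
  let φ : ↥B →* T ⧸ N := MonoidHom.mk' (fun w => (QuotientGroup.mk' N) ⁅(w : T), d⁆) (by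
    intro x y
    show (QuotientGroup.mk' N) ⁅(x : T) * (y : T), d⁆ =
      (QuotientGroup.mk' N) ⁅(x : T), d⁆ * (QuotientGroup.mk' N) ⁅(y : T), d⁆
    rw [comm_mul_left, map_mul, hπconj _ (hBW x.2) _ (hBW (hcd _ y.2)),
      hπcomm _ (hBW (hcd _ y.2)) _ (hBW (hcd _ x.2))])
  have hφ : ∀ w : ↥B, φ w = (QuotientGroup.mk' N) ⁅(w : T), d⁆ := fun w => rfl
  -- kernel
  have hker : (φ.ker).map B.subtype = commSub B N d := by
    ext x
    constructor
    · rintro ⟨w, hw, rfl⟩
      rw [SetLike.mem_coe, MonoidHom.mem_ker, hφ] at hw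
      exact ⟨w.2, (QuotientGroup.eq_one_iff _).mp hw⟩
    · rintro ⟨hxB, hxN⟩
      refine ⟨⟨x, hxB⟩, ?_, rfl⟩
      rw [SetLike.mem_coe, MonoidHom.mem_ker, hφ]
      exact (QuotientGroup.eq_one_iff _).mpr hxN
  have hkercard : Nat.card φ.ker = Nat.card (commSub B N d) := by
    have h0 := Subgroup.card_map_of_injective (K := φ.ker) (Subgroup.subtype_injective B)
    rw [hker] at h0
    exact h0.symm
  -- range
  have hrange : φ.range ≤ (commSub B N d).map (QuotientGroup.mk' N) := by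
    rintro y ⟨w, rfl⟩
    exact ⟨⁅(w : T), d⁆, ⟨hcd _ w.2, hcc _ w.2⟩, rfl⟩
  -- the second homomorphism
  let ψ : ↥(commSub B N d) →* T ⧸ N := (QuotientGroup.mk' N).comp (commSub B N d).subtype
  have hψrange : ψ.range = (commSub B N d).map (QuotientGroup.mk' N) := by
    rw [MonoidHom.range_comp, Subgroup.range_subtype]
  have hψker : (ψ.ker).map (commSub B N d).subtype = N := by
    ext x
    constructor
    · rintro ⟨w, hw, rfl⟩
      rw [SetLike.mem_coe, MonoidHom.mem_ker] at hw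
      exact (QuotientGroup.eq_one_iff _).mp hw
    · intro hx
      refine ⟨⟨x, hNC hx⟩, ?_, rfl⟩
      rw [SetLike.mem_coe, MonoidHom.mem_ker]
      exact (QuotientGroup.eq_one_iff _).mpr hx
  have hψkercard : Nat.card ψ.ker = Nat.card N := by
    have h0 := Subgroup.card_map_of_injective (K := ψ.ker)
      (Subgroup.subtype_injective (commSub B N d))
    rw [hψker] at h0
    exact h0.symm
  have h1 := card_ker_mul_card_range φ
  have h2 := card_ker_mul_card_range ψ
  rw [hkercard] at h1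
  rw [hψkercard, hψrange] at h2
  have h3 := Subgroup.card_le_of_le hrange
  have hNpos : 0 < Nat.card N := Nat.card_pos
  have hCpos : 0 < Nat.card (commSub B N d) := Nat.card_pos
  constructor
  · calc Nat.card B * Nat.card N
        = Nat.card (commSub B N d) * Nat.card φ.range * Nat.card N := by rw [h1]
      _ ≤ Nat.card (commSub B N d) *
          Nat.card ((commSub B N d).map (QuotientGroup.mk' N)) * Nat.card N :=
        Nat.mul_le_mul_right _ (Nat.mul_le_mul_left _ h3)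
      _ = Nat.card (commSub B N d) ^ 2 := by rw [← h2]; ring
  · intro heq u hu
    have h4 : Nat.card φ.range = Nat.card ((commSub B N d).map (QuotientGroup.mk' N)) := by
      have e1 : Nat.card (commSub B N d) * Nat.card φ.range * Nat.card N =
          Nat.card (commSub B N d) *
            Nat.card ((commSub B N d).map (QuotientGroup.mk' N)) * Nat.card N := by
        rw [h1, heq, ← h2]; ring
      have e2 := Nat.eq_of_mul_eq_mul_right hNpos e1
      exact Nat.eq_of_mul_eq_mul_left hCpos e2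
    have h5 : φ.range = (commSub B N d).map (QuotientGroup.mk' N) :=
      Subgroup.eq_of_le_of_card_ge hrange h4.ge
    have h6 : (QuotientGroup.mk' N) u ∈ φ.range := by
      rw [h5]; exact ⟨u, hu, rfl⟩
    obtain ⟨w, hw⟩ := h6
    refine ⟨w, w.2, ?_⟩
    rw [hφ] at hw
    exact QuotientGroup.eq.mp hw.symm

end Cfsg.Agent.Helper5.Ru
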