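import Mathlib
import Cfsg.Agent.Helper5.Ru.Bound
import Cfsg.Agent.Helper4.FrattiniQuotient

/-!
First structural facts for the 2-group of S3174: index of `W`, Frattini subgroup equals `Z₃`.
-/

namespace Cfsg.Agent.Helper5.Ru

open scoped commutatorElement

variable {T : Type*} [Group T]

local notation "Z" => Subgroup.upperCentralSeries T

/-- the coset `g • H` written as a set has `Nat.card H` elements -/
theorem ncard_coset (H : Subgroup T) (g : T) : {y : T | g⁻¹ * y ∈ H}.ncard = Nat.card H := by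
  have : {y : T | g⁻¹ * y ∈ H} = (fun h => g * h) '' (H : Set T) := by
    ext y
    simp only [Set.mem_ofPred_eq, Set.mem_image, SetLike.mem_coe]
    constructor
    · intro hy
      exact ⟨g⁻¹ * y, hy, by group⟩
    · rintro ⟨h, hh, rfl⟩
      simpa using hh
  rw [this, Set.ncard_image_of_injective _ (mul_right_injective g)]
  rfl

theorem comm_inv_eq (g x : T) : ⁅g⁻¹, x⁆ = g⁻¹ * (x * g * x⁻¹) := by
  rw [commutatorElement_def]; group

theorem index_centralizer_ucs_le [Finite T] (k : ℕ) (g : T) (hg : g ∈ Z (k + 1)) :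
    (Subgroup.centralizer ({g} : Set T)).index ≤ Nat.card (Z k) := by
  have h := index_centralizer_le g {y : T | g⁻¹ * y ∈ Z k} (Set.toFinite _) (by
    intro x
    show g⁻¹ * (x * g * x⁻¹) ∈ Z k
    rw [← comm_inv_eq]
    exact Subgroup.mem_upperCentralSeries_succ_iff.mp ((Z (k+1)).inv_mem hg) x)
  rwa [ncard_coset] at h

theorem mem_centralizer_singleton {g x : T} :
    x ∈ Subgroup.centralizer ({g} : Set T) ↔ g * x = x * g := by
  rw [Subgroup.mem_centralizer_iff]
  simp

theorem mem_ucs_one_comm {z : T} (hz : z ∈ Z 1) (x : T) : z * x = x * z := by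
  rw [Subgroup.upperCentralSeries_one] at hz
  exact (Subgroup.mem_center_iff.mp hz x).symm

/-- If `x` commutes with `g2` and `g3`, then it centralizes `Z₃`. -/
theorem comm_of_comm_gens [Finite T] (h21 : (Z 1).relIndex (Z 2) = 2) (h32 : (Z 2).relIndex (Z 3) = 2)
    {g2 g3 : T} (hg2 : g2 ∈ Z 2) (hg2' : g2 ∉ Z 1) (hg3 : g3 ∈ Z 3) (hg3' : g3 ∉ Z 2)
    {x : T} (hx2 : g2 * x = x * g2) (hx3 : g3 * x = x * g3) :
    x ∈ Subgroup.centralizer ((Z 3 : Subgroup T) : Set T) := by
  have c2 : ∀ y ∈ Z 2, y * x = x * y := by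
    intro y hy
    by_cases hy1 : y ∈ Z 1
    · exact mem_ucs_one_comm hy1 x
    · have h := inv_mul_mem_of_relIndex_two h21 hg2 hy hg2' hy1
      have h' := mem_ucs_one_comm h x
      have : y = g2 * (g2⁻¹ * y) := by group
      rw [this, mul_assoc, h', ← mul_assoc, hx2, mul_assoc]
  rw [Subgroup.mem_centralizer_iff]
  intro y hy
  have hy : y ∈ Z 3 := hy
  by_cases hy2 : y ∈ Z 2
  · exact c2 y hy2
  · have h := inv_mul_mem_of_relIndex_two h32 hg3 hy hg3' hy2
    have h' := c2 _ h
    have : y = g3 * (g3⁻¹ * y) := by group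
    rw [this, mul_assoc, h', ← mul_assoc, hx3, mul_assoc]

theorem index_centralizer_ucs_three_le [Finite T] (hT : IsPGroup 2 T)
    (hZ : ∀ i ≤ 4, Nat.card (Z i) = 2 ^ i) (hZ4 : Z 4 ≠ ⊤) :
    (Subgroup.centralizer ((Z 3 : Subgroup T) : Set T)).index ≤ 8 := by
  have : Group.IsNilpotent T := hT.isNilpotent
  have h21 : (Z 1).relIndex (Z 2) = 2 :=
    relIndex_eq_two_of_card (Subgroup.upperCentralSeries_mono T (by omega)) (by
      rw [hZ 2 (by omega), hZ 1 (by omega)]; norm_num)
  have h32 : (Z 2).relIndex (Z 3) = 2 :=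
    relIndex_eq_two_of_card (Subgroup.upperCentralSeries_mono T (by omega)) (by
      rw [hZ 3 (by omega), hZ 2 (by omega)]; norm_num)
  obtain ⟨g2, hg2, hg2'⟩ := SetLike.exists_of_lt (ucs_lt_succ (ucs_ne_top_of_le (by omega : 1 ≤ 4) hZ4))
  obtain ⟨g3, hg3, hg3'⟩ := SetLike.exists_of_lt (ucs_lt_succ (ucs_ne_top_of_le (by omega : 2 ≤ 4) hZ4))
  have hle : Subgroup.centralizer ({g2} : Set T) ⊓ Subgroup.centralizer ({g3} : Set T) ≤
      Subgroup.centralizer ((Z 3 : Subgroup T) : Set T) := by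
    intro x hx
    rw [Subgroup.mem_inf, mem_centralizer_singleton, mem_centralizer_singleton] at hx
    exact comm_of_comm_gens h21 h32 hg2 hg2' hg3 hg3' hx.1 hx.2
  have h1 := Subgroup.index_dvd_of_le hle
  have h2 : (Subgroup.centralizer ({g2} : Set T) ⊓ Subgroup.centralizer ({g3} : Set T)).index ≤
      2 * 4 := by
    refine Subgroup.index_inf_le.trans ?_
    have a2 := index_centralizer_ucs_le 1 g2 hg2
    have a3 := index_centralizer_ucs_le 2 g3 hg3
    rw [hZ 1 (by omega)] at a2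
    rw [hZ 2 (by omega)] at a3
    exact Nat.mul_le_mul a2 a3
  have h3 := Nat.le_of_dvd (Nat.pos_of_ne_zero Subgroup.index_ne_zero_of_finite) h1
  omega

end Cfsg.Agent.Helper5.Ru
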