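import Mathlib
import Cfsg.Agent.Helper5.Ru.StructA

/-!
Main counting step for S3174: `|T| = 2^14`, `|T : W| = 8`, `Φ(W) = Z₃`.
-/

namespace Cfsg.Agent.Helper5.Ru

open scoped commutatorElement

variable {T : Type*} [Group T]

local notation "Z" => Subgroup.upperCentralSeries T

theorem ru_arith (w t e k : ℕ) (hk : k ≤ 3) (he : 2 ^ e ≤ 8) (hb : w ≤ 2 ^ k * 2 ^ (2 ^ e))
    (ht : w * 2 ^ e = t) (ha : 2 ^ 14 ≤ t) : e = 3 ∧ k = 3 ∧ w = 2 ^ 11 ∧ t = 2 ^ 14 := by
  have he3 : e ≤ 3 := by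
    by_contra h
    push Not at h
    have : 2 ^ 4 ≤ 2 ^ e := Nat.pow_le_pow_right (by norm_num) h
    omega
  interval_cases e <;> interval_cases k <;> norm_num at hb ht ha ⊢ <;> omega

theorem frattini_map_normal (W : Subgroup T) [W.Normal] :
    ((frattini ↥W).map W.subtype).Normal :=
  ConjAct.normal_of_characteristic_of_normal

theorem comm_mem_frattini_map [Finite T] (hT : IsPGroup 2 T) (W : Subgroup T) :
    ∀ x ∈ W, ∀ y ∈ W, ⁅x, y⁆ ∈ (frattini ↥W).map W.subtype := by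
  have hfact : Fact (Nat.Prime 2) := ⟨Nat.prime_two⟩
  have hWp : IsPGroup 2 ↥W := hT.to_subgroup W
  intro x hx y hy
  have h1 := Cfsg.Agent.Helper4.pgroup_commutator_mem_frattini hWp ⟨x, hx⟩ ⟨y, hy⟩
  have h2 := Subgroup.mem_map_of_mem W.subtype h1
  simpa [commutatorElement_def] using h2

theorem sq_mem_frattini_map [Finite T] (hT : IsPGroup 2 T) (W : Subgroup T) :
    ∀ x ∈ W, x * x ∈ (frattini ↥W).map W.subtype := by
  have hfact : Fact (Nat.Prime 2) := ⟨Nat.prime_two⟩
  have hWp : IsPGroup 2 ↥W := hT.to_subgroup W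
  intro x hx
  have h1 := Cfsg.Agent.Helper4.pgroup_pow_mem_frattini hWp ⟨x, hx⟩
  have h2 := Subgroup.mem_map_of_mem W.subtype h1
  simpa [pow_two] using h2

theorem struct_main [Finite T] (hT : IsPGroup 2 T) (ha : 2 ^ 14 ≤ Nat.card T)
    (hb : Nat.card ↥(Z 4) = 16)
    (W : Subgroup T) (hW : W = Subgroup.centralizer ((Z 3 : Subgroup T) : Set T))
    (hc : Nat.card ↥(frattini ↥W) ≤ 8) :
    (∀ i ≤ 4, Nat.card (Z i) = 2 ^ i) ∧ W.index = 8 ∧ (frattini ↥W).map W.subtype = Z 3 ∧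
      Nat.card T = 2 ^ 14 ∧ Nat.card W = 2 ^ 11 := by
  have hnil : Group.IsNilpotent T := hT.isNilpotent
  have hZ4 : Z 4 ≠ ⊤ := by
    intro h
    have : Nat.card (Z 4) = Nat.card T := by rw [h]; exact Subgroup.card_top
    omega
  have hZ := card_ucs_of_card_four hT hb hZ4
  have hWn : W.Normal := by rw [hW]; infer_instance
  have hidx : W.index ≤ 8 := by rw [hW]; exact index_centralizer_ucs_three_le hT hZ hZ4
  have hFn : ((frattini ↥W).map W.subtype).Normal := frattini_map_normal W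
  have hFW : (frattini ↥W).map W.subtype ≤ W := Subgroup.map_subtype_le _
  have hFcard : Nat.card ((frattini ↥W).map W.subtype) = Nat.card (frattini ↥W) :=
    Subgroup.card_map_of_injective (Subgroup.subtype_injective W)
  obtain ⟨k, hk⟩ := (hT.to_subgroup ((frattini ↥W).map W.subtype)).exists_card_eq
  have hk3 : k ≤ 3 := by
    have h8 : 2 ^ k ≤ 8 := by rw [← hk, hFcard]; exact hc
    by_contra h
    push Not at h
    have : 2 ^ 4 ≤ 2 ^ k := Nat.pow_le_pow_right (by norm_num) h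
    omega
  have hFZ : (frattini ↥W).map W.subtype = Z k := normal_eq_ucs hT hZ _ k hk3 hk
  have hcomm := comm_mem_frattini_map hT W
  have hsq := sq_mem_frattini_map hT W
  have hrel : (Z k).relIndex (Z (k + 1)) = 2 :=
    relIndex_eq_two_of_card (Subgroup.upperCentralSeries_mono T (by omega)) (by
      rw [hZ (k + 1) (by omega), hZ k (by omega), pow_succ]; ring)
  have hbound : Nat.card W ≤ Nat.card ((frattini ↥W).map W.subtype) * 2 ^ W.index := by
    apply card_fixed_le _ W hFW hsq hcomm _ _ W W le_rfl (fun u hu x hx => hcomm u hu x hx)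
    · intro x _ y _ hx hy hxF hyF
      rw [hFZ] at hx hy hxF hyF ⊢
      exact inv_mul_mem_of_relIndex_two hrel (Subgroup.mem_upperCentralSeries_succ_iff.mpr hx)
        (Subgroup.mem_upperCentralSeries_succ_iff.mpr hy) hxF hyF
    · intro K hKn hKW hKF
      rw [hFZ] at hKF
      obtain ⟨x, hxK, hx1, hx0⟩ := exists_mem_ucs_succ K k hKF
      refine ⟨x, hxK, by rwa [hFZ], fun t => ?_⟩
      rw [hFZ]
      exact Subgroup.mem_upperCentralSeries_succ_iff.mp hx1 t
  obtain ⟨e, he⟩ := hT.index W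
  have hcardT : Nat.card W * W.index = Nat.card T := Subgroup.card_mul_index W
  rw [hk, he] at hbound
  rw [he] at hcardT hidx
  obtain ⟨e3, k3, hw, ht⟩ := ru_arith _ _ e k hk3 hidx hbound hcardT ha
  refine ⟨hZ, ?_, ?_, ht, hw⟩
  · rw [he, e3]; norm_num
  · rw [hFZ, k3]

end Cfsg.Agent.Helper5.Ru
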