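import Mathlib
import Cfsg.Agent.Helper5.Ru.StructB

/-!
The derived subgroup of `W` equals `Z₃` (S3174).
-/

namespace Cfsg.Agent.Helper5.Ru

open scoped commutatorElement

theorem relIndex_le_two_of {G : Type*} [Group G] (H K : Subgroup G)
    (h : ∀ x ∈ K, ∀ y ∈ K, x ∉ H → y ∉ H → x⁻¹ * y ∈ H) : H.relIndex K ≤ 2 := by
  by_cases hKH : K ≤ H
  · rw [Subgroup.relIndex_eq_one.mpr hKH]; norm_num
  · obtain ⟨a, haK, haH⟩ := SetLike.not_le_iff_exists.mp hKH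
    apply le_of_eq
    rw [Subgroup.relIndex_eq_two_iff]
    refine ⟨a, haK, fun b hb => ?_⟩
    by_cases hbH : b ∈ H
    · right
      refine ⟨hbH, fun hba => haH ?_⟩
      have := H.mul_mem (H.inv_mem hbH) hba
      simpa using this
    · left
      refine ⟨?_, hbH⟩
      have hb' : b⁻¹ ∉ H := fun h' => hbH (by simpa using H.inv_mem h')
      have := h b⁻¹ (K.inv_mem hb) a haK hb' haH
      simpa using this

variable {T : Type*} [Group T]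

local notation "Z" => Subgroup.upperCentralSeries T

theorem ucs_three_le_of_relIndex_le (W : Subgroup T)
    (hd : ∀ U : Subgroup ↥W, U.index ≤ 16 → frattini ↥W ≤ U)
    (hF : (frattini ↥W).map W.subtype = Z 3) (U : Subgroup T) (hU : U.relIndex W ≤ 16) :
    Z 3 ≤ U := by
  have h := hd (U.subgroupOf W) hU
  rw [← hF, Subgroup.map_le_iff_le_comap]
  exact h

theorem sq_mul_identity (x y : T) : (x * y) * (x * y) = (x * x) * ⁅x⁻¹, y⁆ * (y * y) := by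
  rw [commutatorElement_def]; group

/-- the elements of `W` whose square lies in `A` -/
def sqSub (W A : Subgroup T) (hcomm : ∀ x ∈ W, ∀ y ∈ W, ⁅x, y⁆ ∈ A) : Subgroup T where
  carrier := {x | x ∈ W ∧ x * x ∈ A}
  mul_mem' := by
    rintro x y ⟨hx, hx2⟩ ⟨hy, hy2⟩
    refine ⟨W.mul_mem hx hy, ?_⟩
    rw [sq_mul_identity]
    exact A.mul_mem (A.mul_mem hx2 (hcomm _ (W.inv_mem hx) _ hy)) hy2
  one_mem' := ⟨W.one_mem, by simpa using A.one_mem⟩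
  inv_mem' := by
    rintro x ⟨hx, hx2⟩
    refine ⟨W.inv_mem hx, ?_⟩
    have : x⁻¹ * x⁻¹ = (x * x)⁻¹ := by group
    rw [this]
    exact A.inv_mem hx2

theorem mem_sqSub {W A : Subgroup T} {hcomm : ∀ x ∈ W, ∀ y ∈ W, ⁅x, y⁆ ∈ A} {x : T} :
    x ∈ sqSub W A hcomm ↔ x ∈ W ∧ x * x ∈ A := Iff.rfl

theorem sqSub_relIndex_le (W A B : Subgroup T) [A.Normal] (hcomm : ∀ x ∈ W, ∀ y ∈ W, ⁅x, y⁆ ∈ A)
    (hsq : ∀ x ∈ W, x * x ∈ B) (hAB : A.relIndex B = 2) :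
    (sqSub W A hcomm).relIndex W ≤ 2 := by
  apply relIndex_le_two_of
  intro x hx y hy hxO hyO
  have hx2 : x * x ∉ A := fun h => hxO ⟨hx, h⟩
  have hy2 : y * y ∉ A := fun h => hyO ⟨hy, h⟩
  have h1 := inv_mul_mem_of_relIndex_two hAB (hsq x hx) (hsq y hy) hx2 hy2
  refine ⟨W.mul_mem (W.inv_mem hx) hy, ?_⟩
  rw [sq_mul_identity, inv_inv]
  have hc := hcomm x hx y hy
  have hn : (x * x)⁻¹ * ⁅x, y⁆ * (x * x)⁻¹⁻¹ ∈ A := Subgroup.Normal.conj_mem inferInstance _ hc _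
  have : x⁻¹ * x⁻¹ * ⁅x, y⁆ * (y * y) =
      ((x * x)⁻¹ * ⁅x, y⁆ * (x * x)⁻¹⁻¹) * ((x * x)⁻¹ * (y * y)) := by group
  rw [this]
  exact A.mul_mem hn h1

theorem commutator_eq_ucs_three [Finite T] (hT : IsPGroup 2 T)
    (hZ : ∀ i ≤ 4, Nat.card (Z i) = 2 ^ i) (hZ4 : Z 4 ≠ ⊤)
    (W : Subgroup T) [hWn : W.Normal]
    (hF : (frattini ↥W).map W.subtype = Z 3)
    (hd : ∀ U : Subgroup ↥W, U.index ≤ 16 → frattini ↥W ≤ U) :
    ⁅W, W⁆ = Z 3 := by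
  have hnil : Group.IsNilpotent T := hT.isNilpotent
  have hcomm := comm_mem_frattini_map hT W
  have hsq := sq_mem_frattini_map hT W
  rw [hF] at hcomm hsq
  have hZW : Z 3 ≤ W := by rw [← hF]; exact Subgroup.map_subtype_le _
  have hD3 : ⁅W, W⁆ ≤ Z 3 := Subgroup.commutator_le.mpr hcomm
  obtain ⟨j, hj⟩ := (hT.to_subgroup ⁅W, W⁆).exists_card_eq
  have hj3 : j ≤ 3 := by
    have h8 : 2 ^ j ≤ 8 := by
      rw [← hj]
      have := Subgroup.card_le_of_le hD3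
      rwa [hZ 3 (by omega)] at this
    by_contra h
    push Not at h
    have : 2 ^ 4 ≤ 2 ^ j := Nat.pow_le_pow_right (by norm_num) h
    omega
  have hDj : ⁅W, W⁆ = Z j := normal_eq_ucs hT hZ _ j hj3 hj
  by_cases hj2 : j = 3
  · rw [hDj, hj2]
  exfalso
  have hD2 : ⁅W, W⁆ ≤ Z 2 := by
    rw [hDj]; exact Subgroup.upperCentralSeries_mono T (by omega)
  have hcomm2 : ∀ x ∈ W, ∀ y ∈ W, ⁅x, y⁆ ∈ Z 2 := fun x hx y hy =>
    hD2 (Subgroup.commutator_mem_commutator hx hy)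
  have h32 : (Z 2).relIndex (Z 3) = 2 :=
    relIndex_eq_two_of_card (Subgroup.upperCentralSeries_mono T (by omega)) (by
      rw [hZ 3 (by omega), hZ 2 (by omega)]; norm_num)
  have hOm := sqSub_relIndex_le W (Z 2) (Z 3) hcomm2 hsq h32
  obtain ⟨g3, hg3, hg3'⟩ :=
    SetLike.exists_of_lt (ucs_lt_succ (ucs_ne_top_of_le (by omega : 2 ≤ 4) hZ4))
  have h23 : Z 2 ≤ Z 3 := Subgroup.upperCentralSeries_mono T (by omega)
  have hg3O : g3 ∈ sqSub W (Z 2) hcomm2 := by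
    refine ⟨hZW hg3, ?_⟩
    have hi : g3⁻¹ ∉ Z 2 := fun h => hg3' (by simpa using (Z 2).inv_mem h)
    have := mul_inv_mem_of_relIndex_two h32 ((Z 3).inv_mem hg3) hg3 hi hg3'
    simpa using this
  have hAO : Z 2 ≤ sqSub W (Z 2) hcomm2 := fun z hz =>
    ⟨hZW (h23 hz), (Z 2).mul_mem hz hz⟩
  obtain ⟨U, hAU, hUO, hgU, hUrel⟩ := exists_relIndex_two_avoiding (Z 2) (sqSub W (Z 2) hcomm2) hAO
    (fun x hx => hx.2) (fun x hx y hy => hcomm2 x hx.1 y hy.1) g3 hg3O hg3'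
  have hOW : sqSub W (Z 2) hcomm2 ≤ W := fun x hx => hx.1
  have hmul := Subgroup.relIndex_mul_relIndex U _ W hUO hOW
  have hle : U.relIndex W ≤ 16 := by
    rw [← hmul, hUrel]
    omega
  exact hgU (ucs_three_le_of_relIndex_le W hd hF U hle hg3)

end Cfsg.Agent.Helper5.Ru
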