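import Mathlib
import Cfsg.Agent.Helper5.Ru.StructC

/-!
Exponent of `Z₃` and the abelianization of `W` (S3174).
-/

namespace Cfsg.Agent.Helper5.Ru

open scoped commutatorElement

variable {T : Type*} [Group T]

local notation "Z" => Subgroup.upperCentralSeries T

theorem comm_sq_of_comm (x y : T) (h : ⁅x, y⁆ * x = x * ⁅x, y⁆) :
    ⁅x * x, y⁆ = ⁅x, y⁆ * ⁅x, y⁆ := by
  have e : ⁅x * x, y⁆ = x * ⁅x, y⁆ * x⁻¹ * ⁅x, y⁆ := by
    simp only [commutatorElement_def]; group
  rw [e, ← h]; group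

/-- the involutions (and 1) of an abelian subgroup -/
def invSub (A : Subgroup T) (hab : ∀ x ∈ A, ∀ y ∈ A, x * y = y * x) : Subgroup T where
  carrier := {z | z ∈ A ∧ z * z = 1}
  mul_mem' := by
    rintro x y ⟨hx, hx2⟩ ⟨hy, hy2⟩
    refine ⟨A.mul_mem hx hy, ?_⟩
    have : x * y * (x * y) = x * (y * x) * y := by group
    rw [this, ← hab x hx y hy]
    have : x * (x * y) * y = (x * x) * (y * y) := by group
    rw [this, hx2, hy2, one_mul]
  one_mem' := ⟨A.one_mem, by simp⟩
  inv_mem' := by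
    rintro x ⟨hx, hx2⟩
    refine ⟨A.inv_mem hx, ?_⟩
    have : x⁻¹ * x⁻¹ = (x * x)⁻¹ := by group
    rw [this, hx2, inv_one]

theorem ucs_three_exponent [Finite T] (hT : IsPGroup 2 T)
    (W : Subgroup T) (hW : W = Subgroup.centralizer ((Z 3 : Subgroup T) : Set T))
    (hF : (frattini ↥W).map W.subtype = Z 3) (hD : ⁅W, W⁆ = Z 3) :
    ∀ z ∈ Z 3, z ^ 2 = 1 := by
  have hsq := sq_mem_frattini_map hT W
  rw [hF] at hsq
  have hcen : ∀ z ∈ Z 3, ∀ x ∈ W, z * x = x * z := by
    intro z hz x hx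
    rw [hW, Subgroup.mem_centralizer_iff] at hx
    exact hx z hz
  have hZW : Z 3 ≤ W := by rw [← hF]; exact Subgroup.map_subtype_le _
  have hab : ∀ x ∈ Z 3, ∀ y ∈ Z 3, x * y = y * x := fun x hx y hy => hcen x hx y (hZW hy)
  have hle : ⁅W, W⁆ ≤ invSub (Z 3) hab := by
    rw [Subgroup.commutator_le]
    intro x hx y hy
    have hc : ⁅x, y⁆ ∈ Z 3 := by rw [← hD]; exact Subgroup.commutator_mem_commutator hx hy
    refine ⟨hc, ?_⟩
    rw [← comm_sq_of_comm x y (hcen _ hc x hx)]
    have h1 := hcen _ (hsq x hx) y hy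
    rw [commutatorElement_def, h1]; group
  intro z hz
  rw [← hD] at hz
  have := (hle hz).2
  rw [pow_two]; exact this

theorem card_abelianization [Finite T] (hT : IsPGroup 2 T) (W : Subgroup T)
    (hcW : Nat.card W = 2 ^ 11) (hcZ : Nat.card (Z 3) = 8)
    (hF : (frattini ↥W).map W.subtype = Z 3) (hD : ⁅W, W⁆ = Z 3) :
    Nat.card (↥W ⧸ commutator ↥W) = 2 ^ 8 ∧ (∀ x : ↥W ⧸ commutator ↥W, x ^ 2 = 1) := by
  have hfact : Fact (Nat.Prime 2) := ⟨Nat.prime_two⟩
  have hWp : IsPGroup 2 ↥W := hT.to_subgroup W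
  have hmap : (commutator ↥W).map W.subtype = Z 3 := by
    rw [Subgroup.map_subtype_commutator, hD]
  have heq : frattini ↥W = commutator ↥W :=
    Subgroup.map_injective (Subgroup.subtype_injective W) (hF.trans hmap.symm)
  constructor
  · rw [← Subgroup.index_eq_card]
    have h1 := Subgroup.card_mul_index (commutator ↥W)
    have h2 : Nat.card (commutator ↥W) = 8 := by
      rw [← Subgroup.card_map_of_injective (Subgroup.subtype_injective W), hmap, hcZ]
    rw [h2, hcW] at h1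
    omega
  · intro x
    induction x using QuotientGroup.induction_on with
    | H w =>
      rw [← QuotientGroup.mk_pow, QuotientGroup.eq_one_iff, ← heq]
      exact Cfsg.Agent.Helper4.pgroup_pow_mem_frattini hWp w

end Cfsg.Agent.Helper5.Ru
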