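import Mathlib
import Cfsg.Agent.Helper5.Ru.GL
import Cfsg.Agent.Helper5.Ru.StructD

/-!
An automorphism of odd order of the 2-group of S3174 is trivial.
-/

namespace Cfsg.Agent.Helper5.Ru

open scoped commutatorElement

variable {T : Type*} [Group T]

local notation "Z" => Subgroup.upperCentralSeries T

theorem char_map_mem (H : Subgroup T) [hH : H.Characteristic] (α : MulAut T) {x : T}
    (hx : x ∈ H) : α x ∈ H :=
  (Subgroup.characteristic_iff_map_le.mp hH α) ⟨x, hx, rfl⟩

theorem aut_pow_apply (α : MulAut T) {x n : T} (hn : α n = n) (hx : α x = x * n) (k : ℕ) :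
    (α ^ k) x = x * n ^ k := by
  induction k with
  | zero => simp
  | succ k ih =>
    rw [pow_succ', MulAut.mul_apply, ih, map_mul, map_pow, hn, hx, mul_assoc, ← pow_succ']

/-- the coprime lifting lemma -/
theorem aut_lift (hT : IsPGroup 2 T) (α : MulAut T) (m : ℕ) (hm : Odd m) (hαm : α ^ m = 1)
    (N : Subgroup T) (hN : ∀ n ∈ N, α n = n) {x : T} (hx : x⁻¹ * α x ∈ N) : α x = x := by
  have h1 : α x = x * (x⁻¹ * α x) := by group
  have h2 := aut_pow_apply α (hN _ hx) h1 m
  rw [hαm, MulAut.one_apply] at h2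
  have h3 : (x⁻¹ * α x) ^ m = 1 := by
    have : x * (x⁻¹ * α x) ^ m = x * 1 := by rw [mul_one]; exact h2.symm
    exact mul_left_cancel this
  obtain ⟨j, hj⟩ := hT (x⁻¹ * α x)
  have h4 : orderOf (x⁻¹ * α x) ∣ m := orderOf_dvd_of_pow_eq_one h3
  have h5 : orderOf (x⁻¹ * α x) ∣ 2 ^ j := orderOf_dvd_of_pow_eq_one hj
  have h6 : Nat.Coprime m (2 ^ j) := Nat.Coprime.pow_right j (Nat.coprime_two_right.mpr hm)
  have h7 : orderOf (x⁻¹ * α x) = 1 := Nat.eq_one_of_dvd_coprimes h6 h4 h5
  rw [orderOf_eq_one_iff] at h7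
  rw [h1, h7, mul_one]

theorem aut_fix_ucs [Finite T] (hT : IsPGroup 2 T) (hZ : ∀ i ≤ 4, Nat.card (Z i) = 2 ^ i)
    (α : MulAut T) (m : ℕ) (hm : Odd m) (hαm : α ^ m = 1) :
    ∀ i ≤ 4, ∀ x ∈ Z i, α x = x := by
  intro i
  induction i with
  | zero =>
    intro _ x hx
    rw [Subgroup.upperCentralSeries_zero, Subgroup.mem_bot] at hx
    rw [hx, map_one]
  | succ i ih =>
    intro hi x hx
    have ih' := ih (by omega)
    by_cases hxi : x ∈ Z i
    · exact ih' x hxi
    have hrel : (Z i).relIndex (Z (i + 1)) = 2 :=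
      relIndex_eq_two_of_card (Subgroup.upperCentralSeries_mono T (by omega)) (by
        rw [hZ (i + 1) hi, hZ i (by omega), pow_succ]; ring)
    have hax : α x ∈ Z (i + 1) := char_map_mem _ α hx
    have haxi : α x ∉ Z i := by
      intro h
      have h1 := ih' _ h
      have h2 : α x = x := α.injective h1
      exact hxi (h2 ▸ h)
    exact aut_lift hT α m hm hαm (Z i) ih' (inv_mul_mem_of_relIndex_two hrel hx hax hxi haxi)

end Cfsg.Agent.Helper5.Ru
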