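import Mathlib
import Cfsg.Agent.Helper5.Ru.Aut

/-!
An automorphism of odd order of the 2-group of S3174 is trivial (conclusion).
-/

namespace Cfsg.Agent.Helper5.Ru

open scoped commutatorElement

variable {T : Type*} [Group T]

local notation "Z" => Subgroup.upperCentralSeries T

theorem mk_conj_eq (N W : Subgroup T) [N.Normal] (hcomm : ∀ x ∈ W, ∀ y ∈ W, ⁅x, y⁆ ∈ N)
    {x v : T} (hx : x ∈ W) (hv : v ∈ W) :
    (QuotientGroup.mk' N) (x * v * x⁻¹) = (QuotientGroup.mk' N) v := by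
  have e : x * v * x⁻¹ = ⁅x, v⁆ * v := by rw [commutatorElement_def]; group
  have h1 : (QuotientGroup.mk' N) ⁅x, v⁆ = 1 := (QuotientGroup.eq_one_iff _).mpr (hcomm x hx v hv)
  rw [e, map_mul, h1, one_mul]

theorem aut_trivial [Finite T] (hT : IsPGroup 2 T) (hZ : ∀ i ≤ 4, Nat.card (Z i) = 2 ^ i)
    (W : Subgroup T) (hW : W = Subgroup.centralizer ((Z 3 : Subgroup T) : Set T))
    (hF : (frattini ↥W).map W.subtype = Z 3)
    (α : MulAut T) (m : ℕ) (hm : Odd m) (hαm : α ^ m = 1) : ∀ x : T, α x = x := by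
  have hnil : Group.IsNilpotent T := hT.isNilpotent
  have hWn : W.Normal := by rw [hW]; infer_instance
  have hWc : W.Characteristic := by rw [hW]; infer_instance
  have hcomm := comm_mem_frattini_map hT W
  rw [hF] at hcomm
  have hZW : Z 3 ≤ W := by rw [← hF]; exact Subgroup.map_subtype_le _
  have h34 : Z 3 ≤ Z 4 := Subgroup.upperCentralSeries_mono T (by omega)
  have hfix := aut_fix_ucs hT hZ α m hm hαm
  have hn3 : (Z 3).Normal := inferInstance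
  -- (ii) `α` is trivial modulo `W`
  have hquot : ∀ t : T, t⁻¹ * α t ∈ W := by
    intro t
    rw [hW, Subgroup.mem_centralizer_iff]
    intro z hz
    have hz : z ∈ Z 3 := hz
    have h1 : α (t * z * t⁻¹) = t * z * t⁻¹ := hfix 3 (by omega) _ (hn3.conj_mem z hz t)
    have h2 : α (t * z * t⁻¹) = α t * z * (α t)⁻¹ := by
      rw [map_mul, map_mul, map_inv, hfix 3 (by omega) z hz]
    rw [h2] at h1
    calc z * (t⁻¹ * α t) = t⁻¹ * (t * z * t⁻¹) * α t := by group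
      _ = t⁻¹ * (α t * z * (α t)⁻¹) * α t := by rw [h1]
      _ = t⁻¹ * α t * z := by group
  have hαW : ∀ w ∈ W, α w ∈ W := fun w hw => char_map_mem W α hw
  have hfW : ∀ w ∈ W, w⁻¹ * α w ∈ W := fun w hw => W.mul_mem (W.inv_mem hw) (hαW w hw)
  -- (iii) the homomorphism `w ↦ w⁻¹ α(w)` modulo `Z₃`
  let φ : ↥W →* T ⧸ Z 3 := MonoidHom.mk' (fun w => (QuotientGroup.mk' (Z 3)) ((w : T)⁻¹ * α w)) (by
    intro x y
    show (QuotientGroup.mk' (Z 3)) (((x : T) * (y : T))⁻¹ * α ((x : T) * (y : T))) =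
      (QuotientGroup.mk' (Z 3)) ((x : T)⁻¹ * α x) * (QuotientGroup.mk' (Z 3)) ((y : T)⁻¹ * α y)
    have e : ((x : T) * (y : T))⁻¹ * α ((x : T) * (y : T)) =
        ((y : T)⁻¹ * ((x : T)⁻¹ * α x) * (y : T)⁻¹⁻¹) * ((y : T)⁻¹ * α y) := by
      rw [map_mul]; group
    rw [e, map_mul, mk_conj_eq (Z 3) W hcomm (W.inv_mem y.2) (hfW _ x.2)])
  have hφ : ∀ w : ↥W, φ w = (QuotientGroup.mk' (Z 3)) ((w : T)⁻¹ * α w) := fun w => rfl
  have hKn : (W ⊓ (φ.range).comap (QuotientGroup.mk' (Z 3))).Normal := by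
    constructor
    rintro x ⟨hxW, hxr⟩ t
    refine ⟨hWn.conj_mem x hxW t, ?_⟩
    obtain ⟨w, hw⟩ := hxr
    refine ⟨⟨t * w * t⁻¹, hWn.conj_mem _ w.2 t⟩, ?_⟩
    rw [hφ] at hw ⊢
    have e2 : (t * (w : T) * t⁻¹)⁻¹ * α (t * (w : T) * t⁻¹) =
        t * ((w : T)⁻¹ * ((t⁻¹ * α t) * α w * (t⁻¹ * α t)⁻¹)) * t⁻¹ := by
      simp only [map_mul, map_inv]; group
    show (QuotientGroup.mk' (Z 3)) ((t * (w : T) * t⁻¹)⁻¹ * α (t * (w : T) * t⁻¹)) =
      (QuotientGroup.mk' (Z 3)) (t * x * t⁻¹)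
    rw [e2, map_mul, map_mul, map_mul (QuotientGroup.mk' (Z 3)) (w : T)⁻¹,
      mk_conj_eq (Z 3) W hcomm (hquot t) (hαW _ w.2), ← map_mul (QuotientGroup.mk' (Z 3)) (w : T)⁻¹,
      hw, map_mul, map_mul]
  have hKle : W ⊓ (φ.range).comap (QuotientGroup.mk' (Z 3)) ≤ Z 3 := by
    by_contra hK
    obtain ⟨x, hxK, hx4, hx3⟩ := exists_mem_ucs_succ _ 3 hK
    obtain ⟨w, hw⟩ := hxK.2
    rw [hφ] at hw
    have h1 : ((w : T)⁻¹ * α w)⁻¹ * x ∈ Z 3 := QuotientGroup.eq.mp hw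
    have h2 : (w : T)⁻¹ * α w ∈ Z 4 := by
      have e : (w : T)⁻¹ * α w = x * (((w : T)⁻¹ * α w)⁻¹ * x)⁻¹ := by group
      rw [e]
      exact (Z 4).mul_mem hx4 ((Z 4).inv_mem (h34 h1))
    have h3 := aut_lift hT α m hm hαm (Z 4) (hfix 4 le_rfl) h2
    rw [h3, inv_mul_cancel, inv_one, one_mul] at h1
    exact hx3 h1
  have hfixW : ∀ w ∈ W, α w = w := by
    intro w hw
    apply aut_lift hT α m hm hαm (Z 3) (hfix 3 (by omega))
    apply hKle
    exact ⟨hfW w hw, ⟨⟨w, hw⟩, rfl⟩⟩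
  -- (iv)
  intro t
  exact aut_lift hT α m hm hαm W hfixW (hquot t)

end Cfsg.Agent.Helper5.Ru
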