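import Mathlib
import Cfsg.Agent.Helper5.Ru.Ctx
import Cfsg.Agent.Helper5.Ru.Basic

/-!
More commutator calculus: the commutator of `u` (with `⁅u, c⁆` central in `W`) with `⁅w', c⁆`.
-/

namespace Cfsg.Agent.Helper5.Ru

open scoped commutatorElement

variable {T : Type*} [Group T]

theorem Ctx.comm_comm_mem {W N : Subgroup T} (h : Ctx W N) (A K : Subgroup T) [hKn : K.Normal]
    (hKW : K ≤ W) (hKc : ∀ z ∈ K, ∀ w ∈ W, z * w = w * z) {c u w' : T}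
    (hdn : ∀ n ∈ N, ⁅c, n⁆ ∈ A) (hu : u ∈ W) (huc : ⁅u, c⁆ ∈ K) (hw' : w' ∈ W) :
    ⁅u, ⁅w', c⁆⁆ ∈ A := by
  have hv : c * w' * c⁻¹ ∈ W := h.conj_mem hw' c
  rw [comm_eq_mul_conj_inv w' c, h.comm_mul_right' hu hw' (W.inv_mem hv), h.comm_inv_right' hu hv]
  have e1 : ⁅u, c * w' * c⁻¹⁆ = c * ⁅c⁻¹ * u * c, w'⁆ * c⁻¹ := by
    simp only [commutatorElement_def]; group
  have e2 : c⁻¹ * u * c = u * ((u * c)⁻¹ * ⁅u, c⁆ * (u * c)⁻¹⁻¹) := by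
    simp only [commutatorElement_def]; group
  have hz' : (u * c)⁻¹ * ⁅u, c⁆ * (u * c)⁻¹⁻¹ ∈ K := hKn.conj_mem _ huc _
  have e3 : ⁅(u * c)⁻¹ * ⁅u, c⁆ * (u * c)⁻¹⁻¹, w'⁆ = 1 := by
    rw [commutatorElement_eq_one_iff_commute]
    exact hKc _ hz' _ hw'
  rw [e1, e2, h.comm_mul_left' hu (hKW hz') hw', e3, mul_one]
  have hm : ⁅u, w'⁆ ∈ N := h.comm u hu w' hw'
  have e4 : c * ⁅u, w'⁆ * c⁻¹ = ⁅c, ⁅u, w'⁆⁆ * ⁅u, w'⁆ := by
    rw [commutatorElement_def c]; group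
  have hcm : ⁅c, ⁅u, w'⁆⁆ ∈ N := by
    rw [commutatorElement_def c]
    exact N.mul_mem (h.nn.conj_mem _ hm c) (N.inv_mem hm)
  rw [e4, ← mul_assoc, h.cen _ hm _ (h.le hcm), mul_assoc, h.exp _ hm, mul_one]
  exact hdn _ hm

/-- the elements of `commSub W K c` outside `commSub W K' c` form a single coset -/
theorem commSub_coset (W K' K : Subgroup T) [hK'n : K'.Normal] [K.Normal]
    (hrel : K'.relIndex K = 2) {c u u' : T} (hu : u ∈ commSub W K c) (hu' : u' ∈ commSub W K c)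
    (hun : u ∉ commSub W K' c) (hun' : u' ∉ commSub W K' c) : u⁻¹ * u' ∈ commSub W K' c := by
  refine ⟨W.mul_mem (W.inv_mem hu.1) hu'.1, ?_⟩
  have e : ⁅u⁻¹ * u', c⁆ = u⁻¹ * (⁅u', c⁆ * ⁅u, c⁆⁻¹) * u⁻¹⁻¹ := by
    simp only [commutatorElement_def]; group
  rw [e]
  apply hK'n.conj_mem
  have h1 : ⁅u, c⁆ ∉ K' := fun hh => hun ⟨hu.1, hh⟩
  have h2 : ⁅u', c⁆ ∉ K' := fun hh => hun' ⟨hu'.1, hh⟩
  exact mul_inv_mem_of_relIndex_two hrel hu.2 hu'.2 h1 h2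

end Cfsg.Agent.Helper5.Ru
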