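import Mathlib
import Cfsg.Agent.Helper5.Ru.StructD
import Cfsg.Agent.Helper5.Ru.Ctx

/-!
Choice of the two elements `c`, `a` of `T` outside `W` used in the analysis of `Z(W)` (S3174).
-/

namespace Cfsg.Agent.Helper5.Ru

open scoped commutatorElement

theorem card_extendBy_le {G : Type*} [Group G] [Finite G] (U : Subgroup G) (b : G)
    (hb2 : b * b ∈ U) (hn : ∀ u ∈ U, b⁻¹ * u * b ∈ U) :
    Nat.card (extendBy U b hb2 hn) ≤ 2 * Nat.card U := by
  have h1 : ((extendBy U b hb2 hn : Subgroup G) : Set G) = (U : Set G) ∪ {y | b⁻¹ * y ∈ U} := by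
    ext x; rfl
  have h2 : Nat.card (extendBy U b hb2 hn) = ((extendBy U b hb2 hn : Subgroup G) : Set G).ncard := rfl
  rw [h2, h1]
  refine (Set.ncard_union_le _ _).trans ?_
  rw [ncard_coset]
  have : (U : Set G).ncard = Nat.card U := rfl
  omega

theorem two_mul_card_le_of_lt {G : Type*} [Group G] [Finite G] (hG : IsPGroup 2 G)
    {H K : Subgroup G} (hlt : H < K) : 2 * Nat.card H ≤ Nat.card K := by
  obtain ⟨a, ha⟩ := (hG.to_subgroup H).exists_card_eq
  obtain ⟨b, hb⟩ := (hG.to_subgroup K).exists_card_eq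
  have h1 : Nat.card H < Nat.card K := by
    refine lt_of_le_of_ne (Subgroup.card_le_of_le hlt.le) ?_
    intro heq
    exact hlt.ne (Subgroup.eq_of_le_of_card_ge hlt.le heq.ge)
  rw [ha, hb] at h1 ⊢
  have hab : a < b := (Nat.pow_lt_pow_iff_right (by norm_num : 1 < 2)).mp h1
  calc 2 * 2 ^ a = 2 ^ (a + 1) := by rw [pow_succ]; ring
    _ ≤ 2 ^ b := Nat.pow_le_pow_right (by norm_num) hab

variable {T : Type*} [Group T]

local notation "Z" => Subgroup.upperCentralSeries T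

theorem exists_central_elt [Finite T] (hT : IsPGroup 2 T) (W : Subgroup T) [hWn : W.Normal]
    (hW : W ≠ ⊤) : ∃ c : T, c ∉ W ∧ c * c ∈ W ∧ ∀ t : T, ⁅t, c⁆ ∈ W := by
  have hfact : Fact (Nat.Prime 2) := ⟨Nat.prime_two⟩
  have hQ : IsPGroup 2 (T ⧸ W) := hT.to_quotient W
  have hnt : Nontrivial (T ⧸ W) := by
    rw [← Finite.one_lt_card_iff_nontrivial, ← Subgroup.index_eq_card]
    have h1 : W.index ≠ 1 := fun h => hW (Subgroup.index_eq_one.mp h)
    have h0 : W.index ≠ 0 := Subgroup.index_ne_zero_of_finite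
    omega
  have hc : Nontrivial (Subgroup.center (T ⧸ W)) := hQ.center_nontrivial
  obtain ⟨n, hn⟩ := (hQ.to_subgroup (Subgroup.center (T ⧸ W))).exists_card_eq
  have hn0 : n ≠ 0 := by
    intro h0
    have : 1 < Nat.card (Subgroup.center (T ⧸ W)) := Finite.one_lt_card_iff_nontrivial.mpr hc
    rw [hn, h0] at this
    omega
  have hdvd : 2 ∣ Nat.card (Subgroup.center (T ⧸ W)) := by
    rw [hn]; exact dvd_pow_self 2 hn0
  obtain ⟨⟨x, hx⟩, hox⟩ := exists_prime_orderOf_dvd_card' 2 hdvd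
  obtain ⟨c, rfl⟩ := QuotientGroup.mk_surjective x
  refine ⟨c, ?_, ?_, ?_⟩
  · intro hcW
    have h1 : (⟨(c : T ⧸ W), hx⟩ : Subgroup.center (T ⧸ W)) = 1 := by
      apply Subtype.ext
      exact (QuotientGroup.eq_one_iff c).mpr hcW
    rw [h1, orderOf_one] at hox
    omega
  · have h2 := pow_orderOf_eq_one (⟨(c : T ⧸ W), hx⟩ : Subgroup.center (T ⧸ W))
    rw [hox] at h2
    have h3 := congrArg Subtype.val h2
    simp only [Subgroup.coe_pow, Subgroup.coe_one] at h3
    rw [← QuotientGroup.mk_pow, QuotientGroup.eq_one_iff, pow_two] at h3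
    exact h3
  · intro t
    rw [← QuotientGroup.eq_one_iff, commutatorElement_def]
    simp only [QuotientGroup.mk_mul, QuotientGroup.mk_inv]
    rw [Subgroup.mem_center_iff] at hx
    rw [hx (t : T ⧸ W)]
    group

/-- the fixed points on `Z₃` of an element `c ∉ W` with `cW` central in `T/W` lie in `Z₂` -/
theorem fixed_le_ucs_two [Finite T] (hT : IsPGroup 2 T) (hZ : ∀ i ≤ 4, Nat.card (Z i) = 2 ^ i)
    (W : Subgroup T) (hW : W = Subgroup.centralizer ((Z 3 : Subgroup T) : Set T)) [W.Normal]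
    (c : T) (hcW : c ∉ W) (hcc : ∀ t : T, ⁅t, c⁆ ∈ W) :
    ∀ n ∈ Z 3, c * n * c⁻¹ = n → n ∈ Z 2 := by
  have hcen : ∀ w ∈ W, ∀ n ∈ Z 3, w * n * w⁻¹ = n := by
    intro w hw n hn
    rw [hW, Subgroup.mem_centralizer_iff] at hw
    rw [← hw n hn]; group
  let Fx : Subgroup T :=
    { carrier := {n | n ∈ Z 3 ∧ c * n * c⁻¹ = n}
      mul_mem' := by
        rintro x y ⟨hx, hx2⟩ ⟨hy, hy2⟩
        refine ⟨(Z 3).mul_mem hx hy, ?_⟩
        have : c * (x * y) * c⁻¹ = (c * x * c⁻¹) * (c * y * c⁻¹) := by group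
        rw [this, hx2, hy2]
      one_mem' := ⟨(Z 3).one_mem, by group⟩
      inv_mem' := by
        rintro x ⟨hx, hx2⟩
        refine ⟨(Z 3).inv_mem hx, ?_⟩
        have : c * x⁻¹ * c⁻¹ = (c * x * c⁻¹)⁻¹ := by group
        rw [this, hx2] }
  have hFxn : Fx.Normal := by
    constructor
    rintro n ⟨hn, hn2⟩ t
    have hn3 : t * n * t⁻¹ ∈ Z 3 := Subgroup.Normal.conj_mem inferInstance n hn t
    refine ⟨hn3, ?_⟩
    have e : c * (t * n * t⁻¹) * c⁻¹ = t * (⁅t⁻¹, c⁆ * (c * n * c⁻¹) * ⁅t⁻¹, c⁆⁻¹) * t⁻¹ := by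
      simp only [commutatorElement_def]; group
    rw [e, hn2, hcen _ (hcc t⁻¹) n hn]
  have hFx3 : Fx ≤ Z 3 := fun n hn => hn.1
  obtain ⟨k, hk⟩ := (hT.to_subgroup Fx).exists_card_eq
  have hne : Nat.card Fx ≠ 8 := by
    intro h8
    have heq : Fx = Z 3 := Subgroup.eq_of_le_of_card_ge hFx3 (by rw [h8, hZ 3 (by omega)]; norm_num)
    apply hcW
    rw [hW, Subgroup.mem_centralizer_iff]
    intro n hn
    have hn' : n ∈ Fx := by rw [heq]; exact hn
    have := hn'.2
    calc n * c = (c * n * c⁻¹) * c := by rw [this]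
      _ = c * n := by group
  have hle8 : Nat.card Fx ≤ 8 := by
    have := Subgroup.card_le_of_le hFx3
    rwa [hZ 3 (by omega)] at this
  have hk2 : k ≤ 2 := by
    rw [hk] at hne hle8
    by_contra hcon
    push Not at hcon
    have h3 : 2 ^ 3 ≤ 2 ^ k := Nat.pow_le_pow_right (by norm_num) hcon
    omega
  have hle := normal_le_ucs hT hZ Fx k (by omega) hk
  intro n hn hfix
  exact Subgroup.upperCentralSeries_mono T hk2 (hle ⟨hn, hfix⟩)

theorem comm_ucs_two_of_comm (h21 : (Z 1).relIndex (Z 2) = 2) {g2 x : T} (hg2 : g2 ∈ Z 2)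
    (hg2' : g2 ∉ Z 1) (hx2 : g2 * x = x * g2) : ∀ y ∈ Z 2, y * x = x * y := by
  intro y hy
  by_cases hy1 : y ∈ Z 1
  · exact mem_ucs_one_comm hy1 x
  · have h := inv_mul_mem_of_relIndex_two h21 hg2 hy hg2' hy1
    have h' := mem_ucs_one_comm h x
    have : y = g2 * (g2⁻¹ * y) := by group
    rw [this, mul_assoc, h', ← mul_assoc, hx2, mul_assoc]

theorem exists_second_elt [Finite T] (hT : IsPGroup 2 T) (hZ : ∀ i ≤ 4, Nat.card (Z i) = 2 ^ i)
    (hZ4 : Z 4 ≠ ⊤) (W : Subgroup T)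
    (hW : W = Subgroup.centralizer ((Z 3 : Subgroup T) : Set T)) [hWn : W.Normal]
    (hcT : Nat.card T = 2 ^ 14) (hcW : Nat.card W = 2 ^ 11) (hexp : ∀ z ∈ Z 3, z * z = 1)
    (c : T) (hc2 : c * c ∈ W) :
    ∃ a : T, a ∉ W ∧ c⁻¹ * a ∉ W ∧ a * a ∈ W ∧ (∀ n ∈ Z 3, a * n * a⁻¹ = n → n ∈ Z 2) := by
  have hnil : Group.IsNilpotent T := hT.isNilpotent
  have h21 : (Z 1).relIndex (Z 2) = 2 :=
    relIndex_eq_two_of_card (Subgroup.upperCentralSeries_mono T (by omega)) (by
      rw [hZ 2 (by omega), hZ 1 (by omega)]; norm_num)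
  have h32 : (Z 2).relIndex (Z 3) = 2 :=
    relIndex_eq_two_of_card (Subgroup.upperCentralSeries_mono T (by omega)) (by
      rw [hZ 3 (by omega), hZ 2 (by omega)]; norm_num)
  have h23 : Z 2 ≤ Z 3 := Subgroup.upperCentralSeries_mono T (by omega)
  obtain ⟨g2, hg2, hg2'⟩ :=
    SetLike.exists_of_lt (ucs_lt_succ (ucs_ne_top_of_le (by omega : 1 ≤ 4) hZ4))
  have hYi := index_centralizer_ucs_le 1 g2 hg2
  rw [hZ 1 (by omega)] at hYi
  have hYc := Subgroup.card_mul_index (Subgroup.centralizer ({g2} : Set T))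
  rw [hcT] at hYc
  have hYge : 2 ^ 13 ≤ Nat.card (Subgroup.centralizer ({g2} : Set T)) := by
    have h0 : (Subgroup.centralizer ({g2} : Set T)).index ≠ 0 := Subgroup.index_ne_zero_of_finite
    by_contra hlt
    push Not at hlt
    have : Nat.card (Subgroup.centralizer ({g2} : Set T)) *
        (Subgroup.centralizer ({g2} : Set T)).index < 2 ^ 13 * 2 := by
      calc _ ≤ Nat.card (Subgroup.centralizer ({g2} : Set T)) * 2 := Nat.mul_le_mul_left _ hYi
        _ < 2 ^ 13 * 2 := Nat.mul_lt_mul_of_pos_right hlt (by norm_num)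
    omega
  have hn : ∀ u ∈ W, c⁻¹ * u * c ∈ W := by
    intro u hu
    have := hWn.conj_mem u hu c⁻¹
    simpa using this
  have hXc := card_extendBy_le W c hc2 hn
  rw [hcW] at hXc
  have hex : ∃ a ∈ Subgroup.centralizer ({g2} : Set T), a ∉ extendBy W c hc2 hn := by
    by_contra hcon
    push Not at hcon
    have hle : Subgroup.centralizer ({g2} : Set T) ≤ extendBy W c hc2 hn := hcon
    have := Subgroup.card_le_of_le hle
    omega
  obtain ⟨a, haY, haX⟩ := hex
  rw [mem_centralizer_singleton] at haY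
  rw [mem_extendBy, not_or] at haX
  have hcZ2 := comm_ucs_two_of_comm h21 hg2 hg2' haY
  refine ⟨a, haX.1, haX.2, ?_, ?_⟩
  · rw [hW, Subgroup.mem_centralizer_iff]
    intro n hn3
    have hn3 : n ∈ Z 3 := hn3
    have hm : ⁅a, n⁆ ∈ Z 2 := by
      rw [← commutatorElement_inv]
      exact (Z 2).inv_mem (Subgroup.mem_upperCentralSeries_succ_iff.mp hn3 a)
    have hma := hcZ2 _ hm
    have hmm := hexp _ (h23 hm)
    have e1 : a * n = ⁅a, n⁆ * n * a := by rw [commutatorElement_def]; group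
    calc n * (a * a) = (⁅a, n⁆ * ⁅a, n⁆) * n * a * a := by rw [hmm]; group
      _ = ⁅a, n⁆ * (⁅a, n⁆ * n * a) * a := by group
      _ = (⁅a, n⁆ * a) * n * a := by rw [← e1]; group
      _ = a * (⁅a, n⁆ * n * a) := by rw [hma]; group
      _ = a * a * n := by rw [← e1]; group
  · intro n hn3 hfix
    by_contra hn2
    apply haX.1
    rw [hW, Subgroup.mem_centralizer_iff]
    have hna : n * a = a * n := by
      calc n * a = (a * n * a⁻¹) * a := by rw [hfix]
        _ = a * n := by group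
    intro n' hn'
    have hn' : n' ∈ Z 3 := hn'
    by_cases hn'2 : n' ∈ Z 2
    · exact hcZ2 n' hn'2
    · have h := inv_mul_mem_of_relIndex_two h32 hn3 hn' hn2 hn'2
      have h' := hcZ2 _ h
      have : n' = n * (n⁻¹ * n') := by group
      rw [this, mul_assoc, h', ← mul_assoc, hna, mul_assoc]

end Cfsg.Agent.Helper5.Ru
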