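import Mathlib
import Cfsg.Agent.Helper5.Ru.Elts

/-!
Upper bounds for the subgroups `commSub B Z₃ d` (S3174).
-/

namespace Cfsg.Agent.Helper5.Ru

open scoped commutatorElement

variable {T : Type*} [Group T]

local notation "Z" => Subgroup.upperCentralSeries T

/-- the fixed point bound specialised to `F = Z₃` -/
theorem card_fixed_le_ucs [Finite T] (hT : IsPGroup 2 T) (hZ : ∀ i ≤ 4, Nat.card (Z i) = 2 ^ i)
    (W : Subgroup T) [W.Normal] (hZW : Z 3 ≤ W) (hcomm : ∀ x ∈ W, ∀ y ∈ W, ⁅x, y⁆ ∈ Z 3)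
    (hsq : ∀ x ∈ W, x * x ∈ Z 3) (X C : Subgroup T) (hCW : C ≤ W)
    (hC : ∀ u ∈ C, ∀ x ∈ X, ⁅u, x⁆ ∈ Z 3) : Nat.card C ≤ 8 * 2 ^ X.index := by
  have hnil : Group.IsNilpotent T := hT.isNilpotent
  have hrel : (Z 3).relIndex (Z 4) = 2 :=
    relIndex_eq_two_of_card (Subgroup.upperCentralSeries_mono T (by omega)) (by
      rw [hZ 4 (by omega), hZ 3 (by omega)]; norm_num)
  have hb := card_fixed_le (Z 3) W hZW hsq hcomm (by
      intro x _ y _ hx hy hxF hyF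
      exact inv_mul_mem_of_relIndex_two hrel (Subgroup.mem_upperCentralSeries_succ_iff.mpr hx)
        (Subgroup.mem_upperCentralSeries_succ_iff.mpr hy) hxF hyF) (by
      intro K hKn hKW hKF
      obtain ⟨x, hxK, hx1, hx0⟩ := exists_mem_ucs_succ K 3 hKF
      exact ⟨x, hxK, hx0, fun t => Subgroup.mem_upperCentralSeries_succ_iff.mp hx1 t⟩) X C hCW hC
  rwa [hZ 3 (by omega)] at hb

theorem index_le_of_card_ge [Finite T] (X : Subgroup T) (m n k : ℕ) (hT : Nat.card T = 2 ^ m)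
    (hX : 2 ^ n ≤ Nat.card X) (hmn : m = n + k) : X.index ≤ 2 ^ k := by
  have h1 := Subgroup.card_mul_index X
  rw [hT, hmn, pow_add] at h1
  by_contra hcon
  push Not at hcon
  have : 2 ^ n * 2 ^ k < Nat.card X * X.index :=
    calc 2 ^ n * 2 ^ k < 2 ^ n * X.index := Nat.mul_lt_mul_of_pos_left hcon (by positivity)
      _ ≤ Nat.card X * X.index := Nat.mul_le_mul_right _ hX
  omega

theorem card_commSub_le [Finite T] (hT : IsPGroup 2 T) (hZ : ∀ i ≤ 4, Nat.card (Z i) = 2 ^ i)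
    (W : Subgroup T) [W.Normal] (hZW : Z 3 ≤ W) (hcomm : ∀ x ∈ W, ∀ y ∈ W, ⁅x, y⁆ ∈ Z 3)
    (hsq : ∀ x ∈ W, x * x ∈ Z 3) (hcT : Nat.card T = 2 ^ 14) (hcW : Nat.card W = 2 ^ 11)
    (B : Subgroup T) (hBW : B ≤ W) (d : T) (hd : d ∉ W) :
    Nat.card (commSub B (Z 3) d) ≤ 2 ^ 7 := by
  have hCW : commSub B (Z 3) d ≤ W := (commSub_le B (Z 3) d).trans hBW
  have hWX : W ≤ stabSub (Z 3) (commSub B (Z 3) d : Set T) := by
    intro x hx u hu
    exact hcomm u (hCW hu) x hx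
  have hdX : d ∈ stabSub (Z 3) (commSub B (Z 3) d : Set T) := fun u hu => hu.2
  have hlt : W < stabSub (Z 3) (commSub B (Z 3) d : Set T) :=
    lt_of_le_of_ne hWX (fun h => hd (by rw [h]; exact hdX))
  have h2 := two_mul_card_le_of_lt hT hlt
  rw [hcW] at h2
  have hidx := index_le_of_card_ge (stabSub (Z 3) (commSub B (Z 3) d : Set T)) 14 12 2 hcT
    (by omega) (by norm_num)
  have hb := card_fixed_le_ucs hT hZ W hZW hcomm hsq
    (stabSub (Z 3) (commSub B (Z 3) d : Set T)) (commSub B (Z 3) d) hCW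
    (fun u hu x hx => hx u hu)
  have : 2 ^ (stabSub (Z 3) (commSub B (Z 3) d : Set T)).index ≤ 2 ^ 2 ^ 2 :=
    Nat.pow_le_pow_right (by norm_num) hidx
  calc Nat.card (commSub B (Z 3) d) ≤ 8 * 2 ^ (stabSub (Z 3) (commSub B (Z 3) d : Set T)).index := hb
    _ ≤ 8 * 2 ^ 2 ^ 2 := Nat.mul_le_mul_left _ this
    _ = 2 ^ 7 := by norm_num

theorem card_commSub_commSub_le [Finite T] (hT : IsPGroup 2 T)
    (hZ : ∀ i ≤ 4, Nat.card (Z i) = 2 ^ i)
    (W : Subgroup T) [hWn : W.Normal] (hZW : Z 3 ≤ W) (hcomm : ∀ x ∈ W, ∀ y ∈ W, ⁅x, y⁆ ∈ Z 3)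
    (hsq : ∀ x ∈ W, x * x ∈ Z 3) (hcT : Nat.card T = 2 ^ 14) (hcW : Nat.card W = 2 ^ 11)
    (a c : T) (ha : a ∉ W) (ha2 : a * a ∈ W) (hc : c ∉ W) (hca : a⁻¹ * c ∉ W) :
    Nat.card (commSub (commSub W (Z 3) a) (Z 3) c) ≤ 2 ^ 5 := by
  have hCW : commSub (commSub W (Z 3) a) (Z 3) c ≤ W :=
    (commSub_le _ (Z 3) c).trans (commSub_le W (Z 3) a)
  have hWX : W ≤ stabSub (Z 3) (commSub (commSub W (Z 3) a) (Z 3) c : Set T) := by
    intro x hx u hu
    exact hcomm u (hCW hu) x hx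
  have hcX : c ∈ stabSub (Z 3) (commSub (commSub W (Z 3) a) (Z 3) c : Set T) := fun u hu => hu.2
  have haX : a ∈ stabSub (Z 3) (commSub (commSub W (Z 3) a) (Z 3) c : Set T) :=
    fun u hu => hu.1.2
  have hn : ∀ u ∈ W, a⁻¹ * u * a ∈ W := by
    intro u hu
    have := hWn.conj_mem u hu a⁻¹
    simpa using this
  have hXa : extendBy W a ha2 hn ≤ stabSub (Z 3) (commSub (commSub W (Z 3) a) (Z 3) c : Set T) := by
    intro x hx
    rcases hx with hx | hx
    · exact hWX hx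
    · have := Subgroup.mul_mem _ haX (hWX hx)
      simpa using this
  have hlt1 : W < extendBy W a ha2 hn := by
    refine lt_of_le_of_ne (fun x hx => Or.inl hx) (fun h => ha ?_)
    rw [h]
    exact Or.inr (by simpa using W.one_mem)
  have hlt2 : extendBy W a ha2 hn < stabSub (Z 3) (commSub (commSub W (Z 3) a) (Z 3) c : Set T) := by
    refine lt_of_le_of_ne hXa (fun h => ?_)
    have : c ∈ extendBy W a ha2 hn := by rw [h]; exact hcX
    rcases this with h1 | h1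
    · exact hc h1
    · exact hca h1
  have h1 := two_mul_card_le_of_lt hT hlt1
  have h2 := two_mul_card_le_of_lt hT hlt2
  rw [hcW] at h1
  have hidx := index_le_of_card_ge
    (stabSub (Z 3) (commSub (commSub W (Z 3) a) (Z 3) c : Set T)) 14 13 1 hcT
    (by omega) (by norm_num)
  have hb := card_fixed_le_ucs hT hZ W hZW hcomm hsq
    (stabSub (Z 3) (commSub (commSub W (Z 3) a) (Z 3) c : Set T))
    (commSub (commSub W (Z 3) a) (Z 3) c) hCW
    (fun u hu x hx => hx u hu)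
  have : 2 ^ (stabSub (Z 3) (commSub (commSub W (Z 3) a) (Z 3) c : Set T)).index ≤ 2 ^ 2 ^ 1 :=
    Nat.pow_le_pow_right (by norm_num) hidx
  calc Nat.card (commSub (commSub W (Z 3) a) (Z 3) c)
      ≤ 8 * 2 ^ (stabSub (Z 3) (commSub (commSub W (Z 3) a) (Z 3) c : Set T)).index := hb
    _ ≤ 8 * 2 ^ 2 ^ 1 := Nat.mul_le_mul_left _ this
    _ = 2 ^ 5 := by norm_num

end Cfsg.Agent.Helper5.Ru
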