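import Mathlib
import Cfsg.Agent.Helper5.Ru.Fix
import Cfsg.Agent.Helper5.Ru.CtxB
import Cfsg.Agent.Helper5.Ru.GL

/-!
`Z₄` is not central in `W` (S3174), hence `Z(W) = Z₃`.
-/

namespace Cfsg.Agent.Helper5.Ru

open scoped commutatorElement

variable {T : Type*} [Group T]

local notation "Z" => Subgroup.upperCentralSeries T

theorem eq_of_sq_ge (k b : ℕ) (hk : k ≤ 2 ^ b) (hsq : 2 ^ (2 * b) ≤ k ^ 2) : k = 2 ^ b := by
  by_contra hne
  have hlt : k < 2 ^ b := lt_of_le_of_ne hk hne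
  have h1 : k ^ 2 < (2 ^ b) ^ 2 := Nat.pow_lt_pow_left hlt (by norm_num)
  rw [← pow_mul, mul_comm] at h1
  omega

theorem comm_mem_ucs_two (d n : T) (hn : n ∈ Z 3) : ⁅d, n⁆ ∈ Z 2 := by
  rw [← commutatorElement_inv]
  exact (Z 2).inv_mem (Subgroup.mem_upperCentralSeries_succ_iff.mp hn d)

theorem no_ucs_four_central [Finite T] (hT : IsPGroup 2 T) (hZ : ∀ i ≤ 4, Nat.card (Z i) = 2 ^ i)
    (hZ4 : Z 4 ≠ ⊤) (W : Subgroup T)
    (hW : W = Subgroup.centralizer ((Z 3 : Subgroup T) : Set T)) [hWn : W.Normal]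
    (hcT : Nat.card T = 2 ^ 14) (hcW : Nat.card W = 2 ^ 11)
    (hF : (frattini ↥W).map W.subtype = Z 3)
    (hd : ∀ U : Subgroup ↥W, U.index ≤ 16 → frattini ↥W ≤ U)
    (hexp : ∀ z ∈ Z 3, z * z = 1)
    (hK : Z 4 ≤ W) (hKc : ∀ z ∈ Z 4, ∀ w ∈ W, z * w = w * z) : False := by
  have hnil : Group.IsNilpotent T := hT.isNilpotent
  have hcomm := comm_mem_frattini_map hT W
  have hsq := sq_mem_frattini_map hT W
  rw [hF] at hcomm hsq
  have hZW : Z 3 ≤ W := by rw [← hF]; exact Subgroup.map_subtype_le _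
  have hcen : ∀ n ∈ Z 3, ∀ w ∈ W, n * w = w * n := by
    intro n hn w hw
    rw [hW, Subgroup.mem_centralizer_iff] at hw
    exact hw n hn
  have ctx : Ctx W (Z 3) := ⟨hWn, inferInstance, hZW, hcen, hexp, hcomm, hsq⟩
  have h23 : Z 2 ≤ Z 3 := Subgroup.upperCentralSeries_mono T (by omega)
  have h34 : Z 3 ≤ Z 4 := Subgroup.upperCentralSeries_mono T (by omega)
  have hrel43 : (Z 3).relIndex (Z 4) = 2 :=
    relIndex_eq_two_of_card h34 (by rw [hZ 4 (by omega), hZ 3 (by omega)]; norm_num)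
  have hWtop : W ≠ ⊤ := by
    intro h
    have : Nat.card W = Nat.card T := by rw [h]; exact Subgroup.card_top
    omega
  obtain ⟨c, hcW', hc2, hcc⟩ := exists_central_elt hT W hWtop
  have hfixc := fixed_le_ucs_two hT hZ W hW c hcW' hcc
  obtain ⟨a, haW, hca', ha2, hfixa⟩ := exists_second_elt hT hZ hZ4 W hW hcT hcW hexp c hc2
  have hca : a⁻¹ * c ∉ W := fun hh => hca' (by simpa using W.inv_mem hh)
  have hcZ3 : Nat.card (Z 3) = 8 := by rw [hZ 3 (by omega)]; norm_num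
  -- round one for `c`
  have hconjW : ∀ d : T, ∀ u ∈ W, d * u * d⁻¹ ∈ W := fun d u hu => hWn.conj_mem u hu d
  obtain ⟨hc_le, hc_eq⟩ := gl_count W (Z 3) W hZW le_rfl hcen hcomm hsq c (hconjW c) hc2
  have hc_ub := card_commSub_le hT hZ W hZW hcomm hsq hcT hcW W le_rfl c hcW'
  rw [hcW, hcZ3] at hc_le hc_eq
  have hc_card : Nat.card (commSub W (Z 3) c) = 2 ^ 7 :=
    eq_of_sq_ge _ 7 hc_ub (by norm_num at hc_le ⊢; exact hc_le)
  have hc_surj := hc_eq (by rw [hc_card]; norm_num)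
  -- round one for `a`
  obtain ⟨ha_le, ha_eq⟩ := gl_count W (Z 3) W hZW le_rfl hcen hcomm hsq a (hconjW a) ha2
  have ha_ub := card_commSub_le hT hZ W hZW hcomm hsq hcT hcW W le_rfl a haW
  rw [hcW, hcZ3] at ha_le ha_eq
  have ha_card : Nat.card (commSub W (Z 3) a) = 2 ^ 7 :=
    eq_of_sq_ge _ 7 ha_ub (by norm_num at ha_le ⊢; exact ha_le)
  have ha_surj := ha_eq (by rw [ha_card]; norm_num)
  -- round two
  have hZCa : Z 3 ≤ commSub W (Z 3) a := fun n hn =>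
    ⟨hZW hn, h23 (Subgroup.mem_upperCentralSeries_succ_iff.mp hn a)⟩
  have hinv : ∀ u ∈ commSub W (Z 3) a, c * u * c⁻¹ ∈ commSub W (Z 3) a := by
    rintro u ⟨hu, hua⟩
    refine ⟨hconjW c u hu, ?_⟩
    have hw'' : ⁅a⁻¹, c⁻¹⁆ ∈ W := by
      have e : ⁅a⁻¹, c⁻¹⁆ = c⁻¹ * ⁅a⁻¹, c⁆⁻¹ * c⁻¹⁻¹ := by
        simp only [commutatorElement_def]; group
      rw [e]
      exact hWn.conj_mem _ (W.inv_mem (hcc a⁻¹)) _
    have e : ⁅c * u * c⁻¹, a⁆ = c * (⁅u, a⁆ * (a * ⁅u, ⁅a⁻¹, c⁻¹⁆⁆ * a⁻¹)) * c⁻¹ := by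
      simp only [commutatorElement_def]; group
    rw [e]
    have hn3 : (Z 3).Normal := inferInstance
    exact hn3.conj_mem _ ((Z 3).mul_mem hua (hn3.conj_mem _ (hcomm u hu _ hw'') a)) c
  obtain ⟨h2_le, h2_eq⟩ := gl_count W (Z 3) (commSub W (Z 3) a) hZCa (commSub_le _ _ _) hcen
    hcomm hsq c hinv hc2
  have h2_ub := card_commSub_commSub_le hT hZ W hZW hcomm hsq hcT hcW a c haW ha2 hcW' hca
  rw [ha_card, hcZ3] at h2_le h2_eq
  have h2_card : Nat.card (commSub (commSub W (Z 3) a) (Z 3) c) = 2 ^ 5 :=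
    eq_of_sq_ge _ 5 h2_ub (by norm_num at h2_le ⊢; exact h2_le)
  have h2_surj := h2_eq (by rw [h2_card]; norm_num)
  -- the element `u1`
  obtain ⟨z, hz4, hz3⟩ :=
    SetLike.exists_of_lt (ucs_lt_succ (ucs_ne_top_of_le (by omega : 3 ≤ 4) hZ4))
  have hzC : z ∈ commSub (commSub W (Z 3) a) (Z 3) c :=
    ⟨⟨hK hz4, Subgroup.mem_upperCentralSeries_succ_iff.mp hz4 a⟩,
      Subgroup.mem_upperCentralSeries_succ_iff.mp hz4 c⟩
  obtain ⟨u1, hu1a, hu1z⟩ := h2_surj z hzC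
  have hu1W : u1 ∈ W := hu1a.1
  have hu1c4 : ⁅u1, c⁆ ∈ Z 4 := by
    have := (Z 4).mul_mem hz4 (h34 hu1z)
    simpa using this
  have hu1c3 : ⁅u1, c⁆ ∉ Z 3 := by
    intro hh
    apply hz3
    have e : z = ⁅u1, c⁆ * (z⁻¹ * ⁅u1, c⁆)⁻¹ := by group
    rw [e]
    exact (Z 3).mul_mem hh ((Z 3).inv_mem hu1z)
  obtain ⟨w1, hw1, hu1w1⟩ := ha_surj u1 hu1a
  have hu1sq : u1 * u1 ∈ Z 2 := by
    rw [← ctx.sq_congr hu1W hu1w1]
    exact ctx.sq_comm_mem (Z 2) ha2 hfixa (fun n hn => comm_mem_ucs_two a n hn) hw1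
  -- the subgroup `E`
  have hCE : commSub W (Z 3) c ≤ commSub W (Z 4) c := fun u hu => ⟨hu.1, h34 hu.2⟩
  have hu1E : u1 ∈ commSub W (Z 4) c := ⟨hu1W, hu1c4⟩
  have hu1C : u1 ∉ commSub W (Z 3) c := fun hh => hu1c3 hh.2
  have E1a : ∀ u ∈ commSub W (Z 4) c, ∀ u' ∈ commSub W (Z 3) c, ⁅u, u'⁆ ∈ Z 2 := by
    intro u hu u' hu'
    obtain ⟨w', hw', huw'⟩ := hc_surj u' hu'
    rw [← ctx.comm_congr_right hu.1 hu'.1 huw']
    exact ctx.comm_comm_mem (Z 2) (Z 4) hK hKc (fun n hn => comm_mem_ucs_two c n hn) hu.1 hu.2 hw'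
  have E2c : ∀ u ∈ commSub W (Z 3) c, u * u ∈ Z 2 := by
    intro u hu
    obtain ⟨w', hw', huw'⟩ := hc_surj u hu
    rw [← ctx.sq_congr hu.1 huw']
    exact ctx.sq_comm_mem (Z 2) hc2 hfixc (fun n hn => comm_mem_ucs_two c n hn) hw'
  have E1 : ∀ u ∈ commSub W (Z 4) c, ∀ u' ∈ commSub W (Z 4) c, ⁅u, u'⁆ ∈ Z 2 := by
    intro u hu u' hu'
    by_cases h1 : u' ∈ commSub W (Z 3) c
    · exact E1a u hu u' h1
    by_cases h2 : u ∈ commSub W (Z 3) c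
    · rw [ctx.comm_symm hu.1 hu'.1]
      exact E1a u' hu' u h2
    have h3 := commSub_coset W (Z 3) (Z 4) hrel43 hu hu' h2 h1
    have e : u' = u * (u⁻¹ * u') := by group
    rw [e, ctx.comm_mul_right' hu.1 hu.1 h3.1, commutatorElement_self, one_mul]
    exact E1a u hu _ h3
  have E2 : ∀ u ∈ commSub W (Z 4) c, u * u ∈ Z 2 := by
    intro u hu
    by_cases h1 : u ∈ commSub W (Z 3) c
    · exact E2c u h1
    have h3 := commSub_coset W (Z 3) (Z 4) hrel43 hu1E hu hu1C h1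
    have e : u = u1 * (u1⁻¹ * u) := by group
    rw [e, ctx.sq_mul hu1W h3.1]
    exact (Z 2).mul_mem ((Z 2).mul_mem hu1sq (E2c _ h3)) (E1a u1 hu1E _ h3)
  have hElt : commSub W (Z 3) c < commSub W (Z 4) c :=
    lt_of_le_of_ne hCE (fun hh => hu1C (by rw [hh]; exact hu1E))
  have hEcard := two_mul_card_le_of_lt hT hElt
  rw [hc_card] at hEcard
  -- the final subgroup
  obtain ⟨g3, hg3, hg3'⟩ :=
    SetLike.exists_of_lt (ucs_lt_succ (ucs_ne_top_of_le (by omega : 2 ≤ 4) hZ4))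
  have h24 : Z 2 ≤ Z 4 := Subgroup.upperCentralSeries_mono T (by omega)
  have hg3E : g3 ∈ commSub W (Z 4) c :=
    ⟨hZW hg3, h24 (Subgroup.mem_upperCentralSeries_succ_iff.mp hg3 c)⟩
  have hAE : Z 2 ≤ commSub W (Z 4) c := fun n hn =>
    ⟨hZW (h23 hn), h24 (Subgroup.mem_upperCentralSeries_succ_iff.mp (h23 hn) c)⟩
  obtain ⟨U, -, hUE, hgU, hUrel⟩ :=
    exists_relIndex_two_avoiding (Z 2) (commSub W (Z 4) c) hAE E2 E1 g3 hg3E hg3'
  have hUW : U ≤ W := hUE.trans (commSub_le _ _ _)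
  have hc1 := card_mul_relIndex hUE
  have hc2' := card_mul_relIndex hUW
  rw [hUrel] at hc1
  rw [hcW] at hc2'
  have hle : U.relIndex W ≤ 16 := by
    have hU7 : 2 ^ 7 ≤ Nat.card U := by omega
    by_contra hcon
    push Not at hcon
    have : 2 ^ 7 * 17 ≤ Nat.card U * U.relIndex W := Nat.mul_le_mul hU7 hcon
    omega
  exact hgU (ucs_three_le_of_relIndex_le W hd hF U hle hg3)

end Cfsg.Agent.Helper5.Ru
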