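import Mathlib
import Cfsg.Agent.Helper5.Ru.Center

/-!
`|Z(W)| = 8` (S3174).
-/

namespace Cfsg.Agent.Helper5.Ru

open scoped commutatorElement

variable {T : Type*} [Group T]

local notation "Z" => Subgroup.upperCentralSeries T

theorem center_map_normal (W : Subgroup T) [W.Normal] :
    ((Subgroup.center ↥W).map W.subtype).Normal :=
  ConjAct.normal_of_characteristic_of_normal

theorem card_center_eq [Finite T] (hT : IsPGroup 2 T) (hZ : ∀ i ≤ 4, Nat.card (Z i) = 2 ^ i)
    (hZ4 : Z 4 ≠ ⊤) (W : Subgroup T)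
    (hW : W = Subgroup.centralizer ((Z 3 : Subgroup T) : Set T)) [hWn : W.Normal]
    (hcT : Nat.card T = 2 ^ 14) (hcW : Nat.card W = 2 ^ 11)
    (hF : (frattini ↥W).map W.subtype = Z 3)
    (hd : ∀ U : Subgroup ↥W, U.index ≤ 16 → frattini ↥W ≤ U)
    (hexp : ∀ z ∈ Z 3, z * z = 1) : Nat.card (Subgroup.center ↥W) = 8 := by
  have hnil : Group.IsNilpotent T := hT.isNilpotent
  have hZW : Z 3 ≤ W := by rw [← hF]; exact Subgroup.map_subtype_le _
  have hcen : ∀ n ∈ Z 3, ∀ w ∈ W, n * w = w * n := by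
    intro n hn w hw
    rw [hW, Subgroup.mem_centralizer_iff] at hw
    exact hw n hn
  have hCn : ((Subgroup.center ↥W).map W.subtype).Normal := center_map_normal W
  have hcard : Nat.card ((Subgroup.center ↥W).map W.subtype) = Nat.card (Subgroup.center ↥W) :=
    Subgroup.card_map_of_injective (Subgroup.subtype_injective W)
  have hZC : Z 3 ≤ (Subgroup.center ↥W).map W.subtype := by
    intro n hn
    refine ⟨⟨n, hZW hn⟩, ?_, rfl⟩
    rw [SetLike.mem_coe, Subgroup.mem_center_iff]
    intro g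
    apply Subtype.ext
    exact (hcen n hn g.1 g.2).symm
  by_cases hle : (Subgroup.center ↥W).map W.subtype ≤ Z 3
  · rw [← hcard, le_antisymm hle hZC, hZ 3 (by omega)]; norm_num
  · exfalso
    have h4 : Z 4 ≤ (Subgroup.center ↥W).map W.subtype :=
      ucs_succ_le_of_normal _ 3 hle hZC (by rw [hZ 4 (by omega), hZ 3 (by omega)]; norm_num)
    have hK : Z 4 ≤ W := h4.trans (Subgroup.map_subtype_le _)
    have hKc : ∀ z ∈ Z 4, ∀ w ∈ W, z * w = w * z := by
      intro z hz w hw
      obtain ⟨z0, hz0, rfl⟩ := h4 hz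
      rw [SetLike.mem_coe, Subgroup.mem_center_iff] at hz0
      have := hz0 ⟨w, hw⟩
      exact (congrArg Subtype.val this).symm
    exact no_ucs_four_central hT hZ hZ4 W hW hcT hcW hF hd hexp hK hKc

end Cfsg.Agent.Helper5.Ru
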