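import Mathlib
import Cfsg.Prelude.Def_Transfer
import Cfsg.Agent.Helper5.Ru.StructD

/-!
Weak closure of `W` in the Sylow 2-subgroup (S3175).
-/

namespace Cfsg.Agent.Helper5.Ru

open scoped commutatorElement

theorem weakly_closed_main {G : Type*} [Group G] [Finite G]
    (T : Sylow 2 G) (ha : 2 ^ 14 ≤ Nat.card ↥(T : Subgroup G))
    (hb : Nat.card ↥(Subgroup.upperCentralSeries ↥(T : Subgroup G) 4) = 16)
    (W : Subgroup ↥(T : Subgroup G))
    (hW : W = Subgroup.centralizer ((Subgroup.upperCentralSeries ↥(T : Subgroup G) 3 :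
      Subgroup ↥(T : Subgroup G)) : Set ↥(T : Subgroup G)))
    (hc : Nat.card ↥(frattini ↥W) ≤ 8)
    (hd : ∀ U : Subgroup ↥W, U.index ≤ 16 → frattini ↥W ≤ U) :
    Cfsg.IsWeaklyClosed (W.map (T : Subgroup G).subtype) (T : Subgroup G) := by
  have hT : IsPGroup 2 ↥(T : Subgroup G) := T.isPGroup'
  obtain ⟨hZ, -, hF, hcT, hcW⟩ := struct_main hT ha hb W hW hc
  have hcomm := comm_mem_frattini_map hT W
  have hsq := sq_mem_frattini_map hT W
  rw [hF] at hcomm hsq
  have hZW : Subgroup.upperCentralSeries ↥(T : Subgroup G) 3 ≤ W := by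
    rw [← hF]; exact Subgroup.map_subtype_le _
  have hι : Function.Injective (T : Subgroup G).subtype := Subgroup.subtype_injective _
  have hWT : W.map (T : Subgroup G).subtype ≤ (T : Subgroup G) := Subgroup.map_subtype_le _
  refine ⟨hWT, fun g hXT => ?_⟩
  -- cardinalities
  have cWg : Nat.card (W.map (T : Subgroup G).subtype) = 2 ^ 11 := by
    rw [Subgroup.card_map_of_injective hι, hcW]
  have cZg : Nat.card ((Subgroup.upperCentralSeries ↥(T : Subgroup G) 3).map
      (T : Subgroup G).subtype) = 8 := by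
    rw [Subgroup.card_map_of_injective hι, hZ 3 (by omega)]; norm_num
  have hconj : Function.Injective (MulAut.conj g).toMonoidHom := (MulAut.conj g).injective
  have cX : Nat.card ((W.map (T : Subgroup G).subtype).map (MulAut.conj g).toMonoidHom) =
      2 ^ 11 := by
    rw [Subgroup.card_map_of_injective hconj, cWg]
  have hr0 := card_mul_relIndex hWT
  rw [cWg, hcT] at hr0
  have hr8 : (W.map (T : Subgroup G).subtype).relIndex (T : Subgroup G) = 8 := by omega
  have r1 : (W.map (T : Subgroup G).subtype).relIndex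
      ((W.map (T : Subgroup G).subtype).map (MulAut.conj g).toMonoidHom) ≤ 8 := by
    rw [← hr8]
    exact Subgroup.relIndex_le_of_le_right hXT (by rw [hr8]; norm_num)
  -- transfer of the hypothesis on subgroups of small index
  have F3 : ∀ U : Subgroup G, U.relIndex (W.map (T : Subgroup G).subtype) ≤ 16 →
      (Subgroup.upperCentralSeries ↥(T : Subgroup G) 3).map (T : Subgroup G).subtype ≤ U := by
    intro U hU
    rw [Subgroup.map_le_iff_le_comap]
    apply ucs_three_le_of_relIndex_le W hd hF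
    rwa [Subgroup.relIndex_comap]
  have F4a : ∀ w ∈ W.map (T : Subgroup G).subtype,
      ∀ z ∈ (Subgroup.upperCentralSeries ↥(T : Subgroup G) 3).map (T : Subgroup G).subtype,
      z * w = w * z := by
    rintro _ ⟨w, hw, rfl⟩ _ ⟨z, hz, rfl⟩
    rw [SetLike.mem_coe, hW, Subgroup.mem_centralizer_iff] at hw
    rw [← map_mul, ← map_mul, hw z hz]
  have F4b : ∀ x ∈ (T : Subgroup G),
      (∀ z ∈ (Subgroup.upperCentralSeries ↥(T : Subgroup G) 3).map (T : Subgroup G).subtype,
        z * x = x * z) → x ∈ W.map (T : Subgroup G).subtype := by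
    intro x hx hcen
    refine ⟨⟨x, hx⟩, ?_, rfl⟩
    rw [SetLike.mem_coe, hW, Subgroup.mem_centralizer_iff]
    intro z hz
    apply Subtype.ext
    exact hcen _ ⟨z, hz, rfl⟩
  have F5a : ∀ x ∈ W.map (T : Subgroup G).subtype, ∀ y ∈ W.map (T : Subgroup G).subtype,
      ⁅x, y⁆ ∈ (Subgroup.upperCentralSeries ↥(T : Subgroup G) 3).map (T : Subgroup G).subtype := by
    rintro _ ⟨x, hx, rfl⟩ _ ⟨y, hy, rfl⟩
    rw [← map_commutatorElement]
    exact ⟨_, hcomm x hx y hy, rfl⟩
  have F5b : ∀ x ∈ W.map (T : Subgroup G).subtype,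
      x * x ∈ (Subgroup.upperCentralSeries ↥(T : Subgroup G) 3).map (T : Subgroup G).subtype := by
    rintro _ ⟨x, hx, rfl⟩
    rw [← map_mul]
    exact ⟨_, hsq x hx, rfl⟩
  have hZgW : (Subgroup.upperCentralSeries ↥(T : Subgroup G) 3).map (T : Subgroup G).subtype ≤
      W.map (T : Subgroup G).subtype := Subgroup.map_mono hZW
  -- abbreviations
  generalize hWg : W.map (T : Subgroup G).subtype = Wg at *
  generalize hZg : (Subgroup.upperCentralSeries ↥(T : Subgroup G) 3).map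
    (T : Subgroup G).subtype = Zg at *
  -- the intersection
  have cY1 := card_mul_relIndex (inf_le_left :
    Wg.map (MulAut.conj g).toMonoidHom ⊓ Wg ≤ Wg.map (MulAut.conj g).toMonoidHom)
  have cY2 := card_mul_relIndex (inf_le_right :
    Wg.map (MulAut.conj g).toMonoidHom ⊓ Wg ≤ Wg)
  rw [Subgroup.inf_relIndex_left, cX] at cY1
  rw [cWg] at cY2
  have hYpos : 0 < Nat.card ↥(Wg.map (MulAut.conj g).toMonoidHom ⊓ Wg) := Nat.card_pos
  have r2 : (Wg.map (MulAut.conj g).toMonoidHom ⊓ Wg).relIndex Wg ≤ 8 := by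
    have : (Wg.map (MulAut.conj g).toMonoidHom ⊓ Wg).relIndex Wg =
        Wg.relIndex (Wg.map (MulAut.conj g).toMonoidHom) :=
      Nat.eq_of_mul_eq_mul_left hYpos (cY2.trans cY1.symm)
    rw [this]; exact r1
  have hZY : Zg ≤ Wg.map (MulAut.conj g).toMonoidHom ⊓ Wg := F3 _ (by omega)
  -- the conjugate of `Zg` lies in `Wg`
  have hNW : Zg.map (MulAut.conj g).toMonoidHom ≤ Wg := by
    rw [Subgroup.map_le_iff_le_comap]
    have h1 : (Wg.comap (MulAut.conj g).toMonoidHom ⊓ Wg).relIndex Wg ≤ 16 := by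
      rw [Subgroup.inf_relIndex_right, Subgroup.relIndex_comap]
      omega
    exact (F3 _ h1).trans inf_le_left
  have hNX : Zg.map (MulAut.conj g).toMonoidHom ≤ Wg.map (MulAut.conj g).toMonoidHom :=
    Subgroup.map_mono hZgW
  -- squares and commutators of the intersection
  have hYsq : ∀ y ∈ Wg.map (MulAut.conj g).toMonoidHom ⊓ Wg,
      y * y ∈ Zg.map (MulAut.conj g).toMonoidHom ⊓ Zg := by
    rintro y ⟨⟨w, hw, rfl⟩, hy2⟩
    refine ⟨?_, F5b _ hy2⟩
    rw [← map_mul]
    exact ⟨_, F5b w hw, rfl⟩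
  have hYcomm : ∀ x ∈ Wg.map (MulAut.conj g).toMonoidHom ⊓ Wg,
      ∀ y ∈ Wg.map (MulAut.conj g).toMonoidHom ⊓ Wg,
      ⁅x, y⁆ ∈ Zg.map (MulAut.conj g).toMonoidHom ⊓ Zg := by
    rintro x ⟨⟨w, hw, rfl⟩, hx2⟩ y ⟨⟨v, hv, rfl⟩, hy2⟩
    refine ⟨?_, F5a _ hx2 _ hy2⟩
    rw [← map_commutatorElement]
    exact ⟨_, F5a w hw v hv, rfl⟩
  have hZN : Zg ≤ Zg.map (MulAut.conj g).toMonoidHom := by
    by_contra hcon
    obtain ⟨c, hcZ, hcN⟩ := SetLike.not_le_iff_exists.mp hcon
    have hRY : Zg.map (MulAut.conj g).toMonoidHom ⊓ Zg ≤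
        Wg.map (MulAut.conj g).toMonoidHom ⊓ Wg := inf_le_right.trans hZY
    obtain ⟨U, -, hUY, hcU, hUrel⟩ := exists_relIndex_two_avoiding _ _ hRY hYsq hYcomm c
      (hZY hcZ) (fun h => hcN h.1)
    have hmul := Subgroup.relIndex_mul_relIndex U _ Wg hUY inf_le_right
    have hU16 : U.relIndex Wg ≤ 16 := by
      rw [← hmul, hUrel]; omega
    exact hcU (F3 U hU16 hcZ)
  have hNeq : Zg.map (MulAut.conj g).toMonoidHom = Zg := by
    symm
    apply Subgroup.eq_of_le_of_card_ge hZN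
    rw [Subgroup.card_map_of_injective hconj]
  -- conclusion
  have hXW : Wg.map (MulAut.conj g).toMonoidHom ≤ Wg := by
    rintro _ ⟨w, hw, rfl⟩
    apply F4b _ (hXT ⟨w, hw, rfl⟩)
    intro z hz
    rw [← hNeq] at hz
    obtain ⟨z0, hz0, rfl⟩ := hz
    rw [← map_mul, ← map_mul, F4a w hw z0 hz0]
  apply Subgroup.eq_of_le_of_card_ge hXW
  rw [cX, cWg]

end Cfsg.Agent.Helper5.Ru
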